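import Mathlib

/-!
# Two commuting automorphisms of prime order

If `α`, `β` are commuting automorphisms with `α ^ r = β ^ r = 1` of an abelian group and every
`α ^ i * β ^ j ≠ α ^ 0 * β ^ 0` has its fixed points in `W`, then every `r`-th power lies in `W`.
-/

set_option autoImplicit false

namespace CfsgLib.TwoSizes69

variable {M : Type*} [CommGroup M] {r : ℕ} [Fact r.Prime]

/-- A product over a line is fixed by the automorphism moving along the line. -/
theorem fixed_prod (g : ZMod r × ZMod r → M) (γ : MulAut M) (d : ZMod r × ZMod r)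
    (hγ : ∀ v, γ (g v) = g (v + d)) : γ (∏ s : ZMod r, g (s * d.1, s * d.2)) =
      ∏ s : ZMod r, g (s * d.1, s * d.2) := by
  rw [map_prod]
  refine Fintype.prod_equiv (Equiv.addRight (1 : ZMod r)) _ _ fun s => ?_
  rw [hγ]
  congr 1
  ext <;> simp [add_mul]

theorem pow_mem_of_two_fixed (α β : MulAut M) (hab : Commute α β) (hα : α ^ r = 1) (hβ : β ^ r = 1)
    (W : Subgroup M)
    (hW : ∀ i j : ℕ, i < r → j < r → (i ≠ 0 ∨ j ≠ 0) → ∀ x, (α ^ i * β ^ j) x = x → x ∈ W) (x : M) :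
    x ^ r ∈ W := by
  classical
  have hr : r.Prime := Fact.out
  haveI : NeZero r := ⟨hr.ne_zero⟩
  let g : ZMod r × ZMod r → M := fun v => (α ^ v.1.val * β ^ v.2.val) x
  have hstep : ∀ u v : ZMod r × ZMod r, (α ^ u.1.val * β ^ u.2.val) (g v) = g (v + u) := by
    intro u v
    show (α ^ u.1.val * β ^ u.2.val * (α ^ v.1.val * β ^ v.2.val)) x = _
    rw [mul_assoc, ← mul_assoc (β ^ u.2.val), ((hab.symm).pow_pow u.2.val v.1.val).eq, mul_assoc,
      ← mul_assoc, ← pow_add, ← pow_add]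
    show _ = (α ^ (v + u).1.val * β ^ (v + u).2.val) x
    rw [Prod.fst_add, Prod.snd_add, ZMod.val_add, ZMod.val_add, ← pow_eq_pow_mod _ hα,
      ← pow_eq_pow_mod _ hβ, add_comm u.1.val, add_comm u.2.val]
  have hline : ∀ d : ZMod r × ZMod r, d ≠ 0 → (∏ s : ZMod r, g (s * d.1, s * d.2)) ∈ W := by
    intro d hd
    refine hW d.1.val d.2.val (ZMod.val_lt _) (ZMod.val_lt _) ?_ _
      (fixed_prod g _ d (fun v => hstep d v))
    by_contra h
    push Not at h
    exact hd (Prod.ext ((ZMod.val_eq_zero _).mp h.1) ((ZMod.val_eq_zero _).mp h.2))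
  have hall : (∏ v : ZMod r × ZMod r, g v) ∈ W := by
    refine hW 1 0 hr.one_lt hr.pos (Or.inl one_ne_zero) _ ?_
    rw [map_prod]
    refine Fintype.prod_equiv (Equiv.addRight ((1 : ZMod r), (0 : ZMod r))) _ _ fun v => ?_
    have := hstep ((1 : ZMod r), (0 : ZMod r)) v
    simpa [ZMod.val_one] using this
  have hid : (∏ j : ZMod r, ∏ s : ZMod r, g (s * 1, s * j)) * (∏ s : ZMod r, g (s * 0, s * 1)) =
      g 0 ^ r * ∏ v : ZMod r × ZMod r, g v := by
    simp only [mul_one, mul_zero]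
    rw [Finset.prod_comm, ← Finset.mul_prod_erase Finset.univ _ (Finset.mem_univ (0 : ZMod r)),
      Fintype.prod_prod_type, ← Finset.mul_prod_erase Finset.univ (fun a => ∏ b : ZMod r, g (a, b))
        (Finset.mem_univ (0 : ZMod r))]
    have h1 : (∏ j : ZMod r, g (0, 0 * j)) = g 0 ^ r := by simp [ZMod.card, Prod.zero_eq_mk]
    have h2 : ∀ s ∈ Finset.univ.erase (0 : ZMod r), (∏ j : ZMod r, g (s, s * j)) = ∏ b : ZMod r, g (s, b) := by
      intro s hs
      exact Fintype.prod_equiv (Equiv.mulLeft₀ s (Finset.ne_of_mem_erase hs)) _ _ fun j => rfl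
    rw [h1, Finset.prod_congr rfl h2, mul_assoc, mul_comm (∏ s : ZMod r, g (0, s))]
  have hL : (∏ j : ZMod r, ∏ s : ZMod r, g (s * 1, s * j)) * (∏ s : ZMod r, g (s * 0, s * 1)) ∈ W :=
    W.mul_mem (Subgroup.prod_mem W fun j _ => hline (1, j) (by simp [Prod.ext_iff]))
      (hline (0, 1) (by simp [Prod.ext_iff]))
  rw [hid, W.mul_mem_cancel_right hall] at hL
  simpa [g] using hL

end CfsgLib.TwoSizes69
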