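import Mathlib
import Cfsg.Agent.PiClasses69.PTools
import Cfsg.Agent.GroupBasics.Conjugates
import Cfsg.Agent.TwoSizes69.Fpf

/-!
# Two class sizes on a normal subgroup containing a Sylow subgroup

`Hyp r N m`: `N` is normal, contains every Sylow `r`-subgroup, every non-central element of `N`
has class size `m` in `G`, and `r ∣ m`. Such a configuration with a non-central element of order
prime to `r` in `N` does not exist; this file proves that the Sylow `r`-subgroups of the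
centralizers have order `r * |O_r(Z(G))|`.
-/

set_option autoImplicit false

namespace CfsgLib.TwoSizes69

open Subgroup
open scoped commutatorElement

variable {G : Type*} [Group G]

/-- `x` is an `r`-element. -/
def RElem (r : ℕ) (x : G) : Prop := ∃ k : ℕ, x ^ r ^ k = 1

theorem mem_Cx {x y : G} : y ∈ centralizer ({x} : Set G) ↔ y * x = x * y :=
  mem_centralizer_singleton_iff

theorem mem_Cx_comm {x y : G} : x ∈ centralizer ({y} : Set G) ↔ y ∈ centralizer ({x} : Set G) := by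
  rw [mem_Cx, mem_Cx]; exact eq_comm

theorem comm_left_mul {a b t : G} : ⁅a * b, t⁆ = a * ⁅b, t⁆ * a⁻¹ * ⁅a, t⁆ := by
  simp only [commutatorElement_def]; group

theorem comm_mul_left_central {a b t : G} (hb : ⁅b, t⁆ ∈ center G) : ⁅a * b, t⁆ = ⁅b, t⁆ * ⁅a, t⁆ := by
  rw [comm_left_mul, mem_center_iff.mp hb a, mul_inv_cancel_right]

theorem comm_mul_right_central {h a b : G} (hb : ⁅h, b⁆ ∈ center G) : ⁅h, a * b⁆ = ⁅h, a⁆ * ⁅h, b⁆ := by
  rw [show ⁅h, a * b⁆ = ⁅h, a⁆ * (a * ⁅h, b⁆ * a⁻¹) by simp only [commutatorElement_def]; group,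
    mem_center_iff.mp hb a, mul_inv_cancel_right]

theorem comm_inv_left_central {a t : G} (ha : ⁅a, t⁆ ∈ center G) : ⁅a⁻¹, t⁆ = ⁅a, t⁆⁻¹ := by
  have : ⁅a⁻¹, t⁆ = a⁻¹ * ⁅a, t⁆⁻¹ * a := by simp only [commutatorElement_def]; group
  rw [this, mem_center_iff.mp (inv_mem ha) a⁻¹, inv_mul_cancel_right]

theorem comm_inv_right_central {h a : G} (ha : ⁅h, a⁆ ∈ center G) : ⁅h, a⁻¹⁆ = ⁅h, a⁆⁻¹ := by
  have : ⁅h, a⁻¹⁆ = a⁻¹ * ⁅h, a⁆⁻¹ * a := by simp only [commutatorElement_def]; group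
  rw [this, mem_center_iff.mp (inv_mem ha) a⁻¹, inv_mul_cancel_right]

theorem comm_pow_left {a t : G} (ha : ⁅a, t⁆ ∈ center G) : ∀ n : ℕ, ⁅a ^ n, t⁆ = ⁅a, t⁆ ^ n
  | 0 => by simp
  | n + 1 => by rw [pow_succ, comm_mul_left_central ha, comm_pow_left ha n, ← pow_succ']

theorem comm_pow_right {h a : G} (ha : ⁅h, a⁆ ∈ center G) : ∀ n : ℕ, ⁅h, a ^ n⁆ = ⁅h, a⁆ ^ n
  | 0 => by simp
  | n + 1 => by rw [pow_succ, comm_mul_right_central ha, comm_pow_right ha n, ← pow_succ]

theorem comm_mem_center_iff {h x : G} :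
    ⁅h, x⁆ ∈ center G ↔ ∃ c ∈ center G, h * x * h⁻¹ = c * x := by
  constructor
  · exact fun hc => ⟨_, hc, by rw [commutatorElement_def]; group⟩
  · rintro ⟨c, hc, e⟩
    rwa [commutatorElement_def, e, mul_inv_cancel_right]

/-- The `r`-part of the center. -/
def Zr (r : ℕ) (G : Type*) [Group G] : Subgroup G where
  carrier := {g | g ∈ center G ∧ RElem r g}
  one_mem' := ⟨one_mem _, 0, by simp⟩
  mul_mem' := by
    rintro a b ⟨ha, i, hi⟩ ⟨hb, j, hj⟩
    refine ⟨mul_mem ha hb, i + j, ?_⟩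
    rw [(show Commute a b from mem_center_iff.mp hb a).mul_pow, pow_add, pow_mul, hi, one_pow, one_mul,
      mul_comm, pow_mul, hj, one_pow]
  inv_mem' := by
    rintro a ⟨ha, i, hi⟩
    exact ⟨inv_mem ha, i, by rw [inv_pow, hi, inv_one]⟩

theorem mem_Zr {r : ℕ} {g : G} : g ∈ Zr r G ↔ g ∈ center G ∧ RElem r g := Iff.rfl

theorem Zr_le_center (r : ℕ) : Zr r G ≤ center G := fun _ h => h.1

theorem Zr_isPGroup {r : ℕ} : IsPGroup r (Zr r G) := by
  rintro ⟨g, _, k, hk⟩
  exact ⟨k, Subtype.ext (by simpa using hk)⟩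

variable [Finite G] {r : ℕ} [Fact r.Prime]

theorem RElem.of_mem {U : Subgroup G} (hU : IsPGroup r U) {x : G} (hx : x ∈ U) : RElem r x := by
  obtain ⟨k, hk⟩ := hU ⟨x, hx⟩
  exact ⟨k, by simpa using congrArg Subtype.val hk⟩

theorem isPGroup_zpowers {x : G} (hx : RElem r x) : IsPGroup r (zpowers x) := by
  obtain ⟨k, hk⟩ := hx
  rw [IsPGroup.iff_card]
  obtain ⟨j, -, hj⟩ := (Nat.dvd_prime_pow Fact.out).mp (orderOf_dvd_of_pow_eq_one hk)
  exact ⟨j, by rw [Nat.card_zpowers, hj]⟩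

omit [Finite G] [Fact r.Prime] in
theorem RElem.pow {x : G} (hx : RElem r x) (n : ℕ) : RElem r (x ^ n) := by
  obtain ⟨k, hk⟩ := hx
  exact ⟨k, by rw [← pow_mul, mul_comm, pow_mul, hk, one_pow]⟩

omit [Finite G] [Fact r.Prime] in
theorem RElem.conj {x : G} (hx : RElem r x) (g : G) : RElem r (g * x * g⁻¹) := by
  obtain ⟨k, hk⟩ := hx
  exact ⟨k, by rw [conj_pow, hk]; group⟩

omit [Finite G] in
theorem RElem.coprime {x y : G} (hx : RElem r x) (hy : ¬ r ∣ orderOf y) :
    (orderOf x).Coprime (orderOf y) := by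
  obtain ⟨k, hk⟩ := hx
  exact ((Fact.out : r.Prime).coprime_iff_not_dvd.mpr hy).pow_left k |>.coprime_dvd_left
    (orderOf_dvd_of_pow_eq_one hk)

theorem RElem.eq_one {x : G} (hx : RElem r x) (h : ¬ r ∣ orderOf x) : x = 1 :=
  orderOf_eq_one_iff.mp (Nat.coprime_self _ |>.mp (hx.coprime h))

/-- `g` is the product of commuting `r`- and `r'`-parts which are powers of `g`. -/
theorem exists_parts' (g : G) : ∃ a b : G, g = a * b ∧ a ∈ zpowers g ∧ b ∈ zpowers g ∧ RElem r a ∧
    ¬ r ∣ orderOf b := by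
  obtain ⟨e, f, he, hk, hf⟩ := PTools69.exists_parts (p := r) g
  exact ⟨g ^ e, g ^ f, he, ⟨e, by simp⟩, ⟨f, by simp⟩, hk, hf⟩

theorem centralizer_le_of_mem_zpowers {g a : G} (ha : a ∈ zpowers g) :
    centralizer ({g} : Set G) ≤ centralizer ({a} : Set G) := by
  intro y hy
  obtain ⟨i, rfl⟩ := mem_zpowers_iff.mp ha
  exact mem_Cx.mpr ((show Commute y g from mem_Cx.mp hy).zpow_right i).eq

/-- The hypotheses. -/
structure Hyp (r : ℕ) (N : Subgroup G) (m : ℕ) : Prop where
  normal : N.Normal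
  sylow_le : ∀ S : Sylow r G, (S : Subgroup G) ≤ N
  sizes : ∀ x ∈ N, x ∉ center G → (centralizer ({x} : Set G)).index = m
  dvd : r ∣ m
  noncentral : ∀ S : Sylow r G, ¬ (S : Subgroup G) ≤ center G

variable {N : Subgroup G} {m : ℕ}

theorem Zr_le_sylow (S : Sylow r G) : Zr r G ≤ (S : Subgroup G) :=
  haveI : (Zr r G).Normal := ⟨fun x hx g => by
    rw [mem_center_iff.mp hx.1 g, mul_inv_cancel_right]; exact hx⟩
  Zr_isPGroup.le_sylow_of_normal S

theorem Hyp.mem_of_rElem (h : Hyp r N m) {x : G} (hx : RElem r x) : x ∈ N := by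
  obtain ⟨S, hS⟩ := (isPGroup_zpowers hx).exists_le_sylow
  exact h.sylow_le S (hS (mem_zpowers x))

theorem Hyp.Zr_le (h : Hyp r N m) : Zr r G ≤ N := fun _ hx => h.mem_of_rElem hx.2

theorem Hyp.eq_of_le (h : Hyp r N m) {x y : G} (hx : x ∈ N) (hx' : x ∉ center G) (hy : y ∈ N)
    (hy' : y ∉ center G) (hle : centralizer ({x} : Set G) ≤ centralizer ({y} : Set G)) :
    centralizer ({x} : Set G) = centralizer ({y} : Set G) := by
  refine le_antisymm hle (relIndex_eq_one.mp ?_)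
  have h1 := relIndex_mul_index hle
  rw [h.sizes x hx hx', h.sizes y hy hy'] at h1
  have hm : 0 < m := by
    rw [← h.sizes x hx hx']; exact Nat.pos_of_ne_zero index_ne_zero_of_finite
  exact Nat.eq_of_mul_eq_mul_right hm (by rw [h1, one_mul])

theorem Hyp.eq_of_commute (h : Hyp r N m) {x y : G} (hx : x ∈ N) (hx' : x ∉ center G) (hy : y ∈ N)
    (hy' : y ∉ center G) (hxr : RElem r x) (hyr : ¬ r ∣ orderOf y) (hc : y ∈ centralizer ({x} : Set G)) :
    centralizer ({x} : Set G) = centralizer ({y} : Set G) := by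
  have hcm : Commute x y := (mem_Cx.mp hc).symm
  have hcop := hxr.coprime hyr
  have hxm : x ∈ zpowers (x * y) := by
    refine PTools69.mem_of_pow_mem (n := orderOf y) hcop.symm ?_
    refine mem_zpowers_iff.mpr ⟨orderOf y, ?_⟩
    rw [zpow_natCast, hcm.mul_pow, pow_orderOf_eq_one, mul_one]
  have hym : y ∈ zpowers (x * y) := by
    refine PTools69.mem_of_pow_mem (n := orderOf x) hcop ?_
    refine mem_zpowers_iff.mpr ⟨orderOf x, ?_⟩
    rw [zpow_natCast, hcm.mul_pow, pow_orderOf_eq_one, one_mul]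
  have hne : x * y ∉ center G := fun hc => hx' (zpowers_le.mpr hc hxm)
  have hxy := N.mul_mem hx hy
  rw [← h.eq_of_le hxy hne hx hx' (centralizer_le_of_mem_zpowers hxm),
    ← h.eq_of_le hxy hne hy hy' (centralizer_le_of_mem_zpowers hym)]

theorem Hyp.not_cen_sylow (h : Hyp r N m) (S : Sylow r G) {x : G} (hx : x ∈ N) (hx' : x ∉ center G) :
    ¬ (S : Subgroup G) ≤ centralizer ({x} : Set G) := fun hle =>
  S.not_dvd_index (((h.sizes x hx hx').symm ▸ h.dvd).trans (index_dvd_of_le hle))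

/-- The order of a Sylow `r`-subgroup of a centralizer. -/
noncomputable def tau (G : Type*) [Group G] (r m : ℕ) : ℕ := r ^ (Nat.card G / m).factorization r

theorem Hyp.card_sylow_cent (h : Hyp r N m) {g : G} (hg : g ∈ N) (hg' : g ∉ center G)
    (P : Sylow r (centralizer ({g} : Set G))) : Nat.card (P : Subgroup (centralizer ({g} : Set G))) = tau G r m := by
  rw [show Nat.card (P : Subgroup (centralizer ({g} : Set G))) = Nat.card P from rfl,
    P.card_eq_multiplicity, tau]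
  congr 2
  rw [← h.sizes g hg hg', ← Subgroup.card_mul_index (centralizer ({g} : Set G)),
    Nat.mul_div_cancel _ (Nat.pos_of_ne_zero index_ne_zero_of_finite)]

theorem Hyp.card_le_tau (h : Hyp r N m) {g : G} (hg : g ∈ N) (hg' : g ∉ center G) {U : Subgroup G}
    (hU : IsPGroup r U) (hUg : U ≤ centralizer ({g} : Set G)) : Nat.card U ≤ tau G r m := by
  obtain ⟨P, hP⟩ := (hU.comap_of_injective (centralizer ({g} : Set G)).subtype
    (Subgroup.subtype_injective _)).exists_le_sylow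
  rw [← h.card_sylow_cent hg hg' P, ← Nat.card_congr (subgroupOfEquivOfLe hUg).toEquiv]
  exact Subgroup.card_le_of_le hP

theorem Hyp.exists_max (h : Hyp r N m) {g : G} (hg : g ∈ N) (hg' : g ∉ center G) :
    ∃ U : Subgroup G, IsPGroup r U ∧ U ≤ centralizer ({g} : Set G) ∧ Nat.card U = tau G r m ∧
      (RElem r g → g ∈ U) := by
  obtain ⟨P⟩ := (inferInstance : Nonempty (Sylow r (centralizer ({g} : Set G))))
  refine ⟨(P : Subgroup _).map (centralizer ({g} : Set G)).subtype, P.isPGroup'.map _, map_subtype_le _,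
    by rw [card_map_of_injective (Subgroup.subtype_injective _), h.card_sylow_cent hg hg' P], ?_⟩
  rintro ⟨k, hk⟩
  refine ⟨⟨g, mem_Cx.mpr rfl⟩, PTools69.mem_sylow_of_normalizes P ?_ ⟨k, Subtype.ext (by simpa using hk)⟩, rfl⟩
  refine centralizer_le_normalizer _ (mem_centralizer_iff.mpr fun y _ => Subtype.ext ?_)
  exact mem_Cx.mp y.2

theorem Hyp.tau_pow (h : Hyp r N m) : ∃ a : ℕ, tau G r m = r ^ a := ⟨_, rfl⟩

theorem Hyp.exists_noncentral (h : Hyp r N m) (S : Sylow r G) :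
    ∃ x ∈ (S : Subgroup G), x ∉ center G := by
  by_contra hc; push Not at hc; exact h.noncentral S hc

theorem Hyp.Zr_lt_tau (h : Hyp r N m) : Nat.card (Zr r G) < tau G r m := by
  obtain ⟨S⟩ := (inferInstance : Nonempty (Sylow r G))
  obtain ⟨x, hxS, hx⟩ := h.exists_noncentral S
  have hU : IsPGroup r (zpowers x ⊔ Zr r G : Subgroup G) :=
    S.isPGroup'.to_le (sup_le (zpowers_le.mpr hxS) (Zr_le_sylow S))
  refine lt_of_lt_of_le ?_ (h.card_le_tau (h.sylow_le S hxS) hx hU (sup_le ?_ ?_))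
  · refine Set.Finite.card_lt_card (Set.toFinite _) (SetLike.coe_ssubset_coe.mpr (lt_of_le_of_ne le_sup_right fun e => hx ?_))
    have : x ∈ Zr r G := e ▸ mem_sup_left (mem_zpowers x)
    exact this.1
  · exact zpowers_le.mpr (mem_Cx.mpr rfl)
  · exact fun z hz => mem_Cx.mpr ((mem_center_iff.mp hz.1 x).symm)

/-- Every non-central element of `N` has the centralizer of a non-central `r`-element. -/
theorem Hyp.exists_rep (h : Hyp r N m) {g : G} (hg : g ∈ N) (hg' : g ∉ center G) :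
    ∃ x : G, RElem r x ∧ x ∉ center G ∧ centralizer ({g} : Set G) = centralizer ({x} : Set G) := by
  obtain ⟨a, b, hab, ha, hb, har, hbr⟩ := exists_parts' (r := r) g
  by_cases ha' : a ∈ center G
  · have hb' : b ∉ center G := fun hb' => hg' (hab ▸ mul_mem ha' hb')
    have hbN : b ∈ N := zpowers_le.mpr hg hb
    rw [h.eq_of_le hg hg' hbN hb' (centralizer_le_of_mem_zpowers hb)]
    obtain ⟨U, hU, hUb, hUc, -⟩ := h.exists_max hbN hb'
    obtain ⟨x, hxU, hx⟩ : ∃ x ∈ U, x ∉ center G := by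
      by_contra hc
      push Not at hc
      have : U ≤ Zr r G := fun u hu => ⟨hc u hu, RElem.of_mem hU hu⟩
      have := Subgroup.card_le_of_le this
      have := h.Zr_lt_tau
      omega
    have hxr : RElem r x := RElem.of_mem hU hxU
    exact ⟨x, hxr, hx, (h.eq_of_commute (h.mem_of_rElem hxr) hx hbN hb' hxr hbr (mem_Cx_comm.mp (hUb hxU))).symm⟩
  · exact ⟨a, har, ha', h.eq_of_le hg hg' (zpowers_le.mpr hg ha) ha' (centralizer_le_of_mem_zpowers ha)⟩

/-- A non-central `r`-element commuting with a non-central `r'`-element of `N`. -/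
def Mixed (r : ℕ) (N : Subgroup G) (x : G) : Prop :=
  RElem r x ∧ x ∉ center G ∧
    ∃ y ∈ N, y ∉ center G ∧ ¬ r ∣ orderOf y ∧ y ∈ centralizer ({x} : Set G)

theorem Hyp.mixed_eq (h : Hyp r N m) {x g : G} (hx : Mixed r N x) (hg : g ∈ N) (hg' : g ∉ center G)
    (hgx : g ∈ centralizer ({x} : Set G)) : centralizer ({g} : Set G) = centralizer ({x} : Set G) := by
  obtain ⟨hxr, hx', y, hy, hy', hyr, hyx⟩ := hx
  have hxN := h.mem_of_rElem hxr
  have hxy := h.eq_of_commute hxN hx' hy hy' hxr hyr hyx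
  obtain ⟨a, b, hab, ha, hb, har, hbr⟩ := exists_parts' (r := r) g
  refine (h.eq_of_le hxN hx' hg hg' ?_).symm
  have hca : centralizer ({x} : Set G) ≤ centralizer ({a} : Set G) := by
    by_cases ha' : a ∈ center G
    · exact fun u _ => mem_Cx.mpr ((mem_center_iff.mp ha' u))
    · have haN : a ∈ N := zpowers_le.mpr hg ha
      have hax : a ∈ centralizer ({x} : Set G) := zpowers_le.mpr hgx ha
      rw [hxy] at hax
      rw [h.eq_of_commute haN ha' hy hy' har hyr (mem_Cx_comm.mp hax), hxy]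
  have hcb : centralizer ({x} : Set G) ≤ centralizer ({b} : Set G) := by
    by_cases hb' : b ∈ center G
    · exact fun u _ => mem_Cx.mpr ((mem_center_iff.mp hb' u))
    · exact (h.eq_of_commute hxN hx' (zpowers_le.mpr hg hb) hb' hxr hbr (zpowers_le.mpr hgx hb)).le
  intro u hu
  rw [hab]
  exact mem_Cx.mpr ((show Commute u a from mem_Cx.mp (hca hu)).mul_right (mem_Cx.mp (hcb hu))).eq

/-- The elements of `N ⊓ C(x)` commute for mixed `x`. -/
theorem Hyp.mixed_comm (h : Hyp r N m) {x a b : G} (hx : Mixed r N x) (ha : a ∈ N)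
    (hax : a ∈ centralizer ({x} : Set G)) (hbx : b ∈ centralizer ({x} : Set G)) : b * a = a * b := by
  by_cases ha' : a ∈ center G
  · exact mem_center_iff.mp ha' b
  · rw [← h.mixed_eq hx ha ha' hax] at hbx
    exact mem_Cx.mp hbx

theorem Hyp.mixed_conj (h : Hyp r N m) {x : G} (hx : Mixed r N x) (g : G) : Mixed r N (g * x * g⁻¹) := by
  obtain ⟨hxr, hx', y, hy, hy', hyr, hyx⟩ := hx
  refine ⟨hxr.conj g, fun hc => hx' ?_, g * y * g⁻¹, h.normal.conj_mem y hy g, fun hc => hy' ?_, ?_, ?_⟩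
  · have := (inferInstance : (center G).Normal).conj_mem _ hc g⁻¹
    rwa [show g⁻¹ * (g * x * g⁻¹) * g⁻¹⁻¹ = x by group] at this
  · have := (inferInstance : (center G).Normal).conj_mem _ hc g⁻¹
    rwa [show g⁻¹ * (g * y * g⁻¹) * g⁻¹⁻¹ = y by group] at this
  · rwa [← MulAut.conj_apply, ← MulEquiv.coe_toMonoidHom, orderOf_injective _ (MulAut.conj g).injective]
  · rw [mem_Cx]
    calc g * y * g⁻¹ * (g * x * g⁻¹) = g * (y * x) * g⁻¹ := by group
      _ = g * (x * y) * g⁻¹ := by rw [mem_Cx.mp hyx]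
      _ = g * x * g⁻¹ * (g * y * g⁻¹) := by group

theorem conj_mem_centralizer {g u x : G} (hu : u ∈ centralizer ({x} : Set G)) :
    g * u * g⁻¹ ∈ centralizer ({g * x * g⁻¹} : Set G) := by
  rw [mem_Cx]
  calc g * u * g⁻¹ * (g * x * g⁻¹) = g * (u * x) * g⁻¹ := by group
    _ = g * (x * u) * g⁻¹ := by rw [mem_Cx.mp hu]
    _ = g * x * g⁻¹ * (g * u * g⁻¹) := by group

theorem mem_normalizer_Cx {g x : G} (hg : centralizer ({g * x * g⁻¹} : Set G) = centralizer ({x} : Set G)) :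
    g ∈ normalizer (centralizer ({x} : Set G) : Set G) := by
  rw [mem_normalizer_iff]
  intro u
  constructor
  · intro hu
    exact hg ▸ conj_mem_centralizer hu
  · intro hu
    rw [← hg] at hu
    have := conj_mem_centralizer (g := g⁻¹) hu
    rwa [show g⁻¹ * (g * u * g⁻¹) * g⁻¹⁻¹ = u by group,
      show g⁻¹ * (g * x * g⁻¹) * g⁻¹⁻¹ = x by group] at this

theorem Hyp.mem_normalizer (h : Hyp r N m) {x g : G} (hx : Mixed r N x)
    (hg : g * x * g⁻¹ ∈ centralizer ({x} : Set G)) :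
    g ∈ normalizer (centralizer ({x} : Set G) : Set G) :=
  mem_normalizer_Cx (h.mixed_eq hx (h.mem_of_rElem (hx.1.conj g)) (h.mixed_conj hx g).2.1 hg)

/-- The `r'`-elements of `N ⊓ C(x)`. -/
def Kx (h : Hyp r N m) {x : G} (hx : Mixed r N x) : Subgroup G where
  carrier := {g | g ∈ N ∧ g ∈ centralizer ({x} : Set G) ∧ ¬ r ∣ orderOf g}
  one_mem' := ⟨one_mem _, one_mem _, by simp [(Fact.out : r.Prime).ne_one]⟩
  mul_mem' := by
    rintro a b ⟨ha, hax, har⟩ ⟨hb, hbx, hbr⟩
    refine ⟨mul_mem ha hb, mul_mem hax hbx, fun hd => ?_⟩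
    have := hd.trans (Commute.orderOf_mul_dvd_mul_orderOf (h.mixed_comm hx hb hbx hax))
    exact ((Fact.out : r.Prime).dvd_mul.mp this).elim har hbr
  inv_mem' := by
    rintro a ⟨ha, hax, har⟩
    exact ⟨inv_mem ha, inv_mem hax, by rwa [orderOf_inv]⟩

theorem Hyp.Kx_conj (h : Hyp r N m) {x g : G} (hx : Mixed r N x)
    (hg : g ∈ normalizer (centralizer ({x} : Set G) : Set G)) {k : G} (hk : k ∈ Kx h hx) :
    g * k * g⁻¹ ∈ Kx h hx := by
  refine ⟨h.normal.conj_mem k hk.1 g, (mem_normalizer_iff.mp hg k).mp hk.2.1, ?_⟩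
  rw [← MulAut.conj_apply, ← MulEquiv.coe_toMonoidHom, orderOf_injective _ (MulAut.conj g).injective]
  exact hk.2.2

/-- No elementary abelian group of order `r ^ 2` acts on `C(x)` with fixed point free action. -/
theorem Hyp.no_two (h : Hyp r N m) {x h1 h2 : G} (hx : Mixed r N x)
    (hn1 : h1 ∈ normalizer (centralizer ({x} : Set G) : Set G))
    (hn2 : h2 ∈ normalizer (centralizer ({x} : Set G) : Set G))
    (hp1 : h1 ^ r ∈ centralizer ({x} : Set G)) (hp2 : h2 ^ r ∈ centralizer ({x} : Set G))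
    (hc : ⁅h1, h2⁆ ∈ centralizer ({x} : Set G))
    (hind : ∀ i j : ℕ, i < r → j < r → (i ≠ 0 ∨ j ≠ 0) → h1 ^ i * h2 ^ j ∉ centralizer ({x} : Set G)) :
    False := by
  set K := Kx h hx
  letI : CommGroup K := { (inferInstance : Group K) with
    mul_comm := fun a b => Subtype.ext (h.mixed_comm hx b.2.1 b.2.2.1 a.2.2.1) }
  let act : normalizer (centralizer ({x} : Set G) : Set G) →* MulAut K :=
    { toFun := fun g =>
        { toFun := fun k => ⟨(g : G) * k * (g : G)⁻¹, h.Kx_conj hx g.2 k.2⟩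
          invFun := fun k => ⟨(g⁻¹ : normalizer (centralizer ({x} : Set G) : Set G)) * (k : G) *
            ((g⁻¹ : normalizer (centralizer ({x} : Set G) : Set G)) : G)⁻¹, h.Kx_conj hx (g⁻¹).2 k.2⟩
          left_inv := fun k => Subtype.ext (by simp [mul_assoc])
          right_inv := fun k => Subtype.ext (by simp [mul_assoc])
          map_mul' := fun a b => Subtype.ext (by simp [mul_assoc]) }
      map_one' := by ext k; simp
      map_mul' := fun a b => by ext k; simp [mul_assoc] }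
  have hker : ∀ g : normalizer (centralizer ({x} : Set G) : Set G),
      (g : G) ∈ centralizer ({x} : Set G) → act g = 1 := by
    intro g hg
    ext k
    show (g : G) * k * (g : G)⁻¹ = k
    rw [h.mixed_comm hx k.2.1 k.2.2.1 hg, mul_inv_cancel_right]
  set α := act ⟨h1, hn1⟩
  set β := act ⟨h2, hn2⟩
  have hab : Commute α β := by
    rw [← commutatorElement_eq_one_iff_commute, ← map_commutatorElement]
    exact hker _ hc
  have hα : α ^ r = 1 := by rw [← map_pow]; exact hker _ (by simpa using hp1)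
  have hβ : β ^ r = 1 := by rw [← map_pow]; exact hker _ (by simpa using hp2)
  let W : Subgroup K := (center G).subgroupOf K
  have hW : ∀ i j : ℕ, i < r → j < r → (i ≠ 0 ∨ j ≠ 0) → ∀ k, (α ^ i * β ^ j) k = k → k ∈ W := by
    intro i j hi hj hij k hk
    by_contra hk'
    apply hind i j hi hj hij
    rw [← h.mixed_eq hx k.2.1 hk' k.2.2.1, mem_Cx]
    rw [← map_pow, ← map_pow, ← map_mul] at hk
    have hk'' : h1 ^ i * h2 ^ j * (k : G) * (h1 ^ i * h2 ^ j)⁻¹ = k := by
      simpa [act] using congrArg Subtype.val hk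
    calc h1 ^ i * h2 ^ j * (k : G) = h1 ^ i * h2 ^ j * (k : G) * (h1 ^ i * h2 ^ j)⁻¹ * (h1 ^ i * h2 ^ j) := by group
      _ = k * (h1 ^ i * h2 ^ j) := by rw [hk'']
  obtain ⟨-, -, y, hy, hy', hyr, hyx⟩ := id hx
  have hyp := pow_mem_of_two_fixed α β hab hα hβ W hW ⟨y, hy, hyx, hyr⟩
  refine hy' (PTools69.mem_of_pow_mem (n := r) ((Fact.out : r.Prime).coprime_iff_not_dvd.mpr hyr) ?_)
  simpa [W, mem_subgroupOf] using hyp

/-- A subgroup normalising `C(x)` modulo which it is elementary abelian is small. -/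
theorem Hyp.card_le_mul (h : Hyp r N m) {x : G} (hx : Mixed r N x) (A : Subgroup G)
    (hn : ∀ a ∈ A, a ∈ normalizer (centralizer ({x} : Set G) : Set G))
    (hp : ∀ a ∈ A, a ^ r ∈ centralizer ({x} : Set G))
    (hc : ∀ a ∈ A, ∀ b ∈ A, ⁅a, b⁆ ∈ centralizer ({x} : Set G)) :
    Nat.card A ≤ r * Nat.card ↥(A ⊓ centralizer ({x} : Set G)) := by
  set C := centralizer ({x} : Set G)
  haveI : NeZero r := ⟨(Fact.out : r.Prime).ne_zero⟩
  obtain ⟨h1, hh1, hall⟩ : ∃ h1 ∈ A, ∀ a ∈ A, ∃ i : Fin r, (h1 ^ (i : ℕ))⁻¹ * a ∈ C := by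
    by_cases hA : A ≤ C
    · exact ⟨1, one_mem _, fun a ha => ⟨0, by simpa using hA ha⟩⟩
    obtain ⟨h1, hh1, hh1C⟩ := SetLike.not_le_iff_exists.mp hA
    refine ⟨h1, hh1, fun h2 hh2 => ?_⟩
    by_contra hno
    push Not at hno
    -- the multiples of `h1` modulo `C`
    have hB : ∀ b ∈ zpowers h1 ⊔ C, ∃ i : Fin r, (h1 ^ (i : ℕ))⁻¹ * b ∈ C := by
      intro b hb
      rw [← SetLike.mem_coe, coe_mul_of_left_le_normalizer_right _ _ (zpowers_le.mpr (hn h1 hh1))] at hb
      obtain ⟨u, hu, c, hc', rfl⟩ := hb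
      obtain ⟨z, rfl⟩ := mem_zpowers_iff.mp hu
      have hr0 : (0 : ℤ) < r := by exact_mod_cast (Fact.out : r.Prime).pos
      refine ⟨⟨(z % r).toNat, by have := Int.emod_lt_of_pos z hr0; omega⟩, ?_⟩
      show (h1 ^ (z % r).toNat)⁻¹ * (h1 ^ z * c) ∈ C
      rw [← mul_assoc, ← zpow_natCast, Int.toNat_of_nonneg (Int.emod_nonneg z hr0.ne'), ← zpow_neg,
        ← zpow_add, show -(z % (r : ℤ)) + z = (r : ℤ) * (z / r) by
          have := Int.emod_add_mul_ediv z r; linarith, zpow_mul, zpow_natCast]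
      exact mul_mem (zpow_mem (hp h1 hh1) _) hc'
    refine h.no_two hx (hn h1 hh1) (hn h2 hh2) (hp h1 hh1) (hp h2 hh2) (hc h1 hh1 h2 hh2) ?_
    intro i j hi hj hij hm
    by_cases hj0 : j = 0
    · subst hj0
      rw [pow_zero, mul_one] at hm
      refine hh1C ?_
      have hi0 : i ≠ 0 := hij.resolve_right (by simp)
      obtain ⟨e, -, he⟩ := Nat.exists_mul_mod_eq_one_of_coprime
        (((Fact.out : r.Prime).coprime_iff_not_dvd.mpr (Nat.not_dvd_of_pos_of_lt (Nat.pos_of_ne_zero hi0) hi)).symm)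
        (Fact.out : r.Prime).one_lt
      have hdm := Nat.mod_add_div (i * e) r
      rw [he] at hdm
      have h2 : h1 ^ (i * e) ∈ C := by rw [pow_mul]; exact pow_mem hm e
      rw [← hdm, pow_add, pow_one, pow_mul] at h2
      exact (C.mul_mem_cancel_right (pow_mem (hp h1 hh1) _)).mp h2
    · obtain ⟨e, -, he⟩ := Nat.exists_mul_mod_eq_one_of_coprime
        (((Fact.out : r.Prime).coprime_iff_not_dvd.mpr (Nat.not_dvd_of_pos_of_lt (Nat.pos_of_ne_zero hj0) hj)).symm)
        (Fact.out : r.Prime).one_lt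
      have hj2 : h2 ^ j ∈ zpowers h1 ⊔ C := by
        have := mul_mem (mem_sup_left (inv_mem (pow_mem (mem_zpowers h1) i)) : (h1 ^ i)⁻¹ ∈ zpowers h1 ⊔ C)
          (mem_sup_right hm)
        rwa [inv_mul_cancel_left] at this
      have hdm := Nat.mod_add_div (j * e) r
      rw [he] at hdm
      have h2' : h2 ^ (j * e) ∈ zpowers h1 ⊔ C := by rw [pow_mul]; exact pow_mem hj2 e
      rw [← hdm, pow_add, pow_one, pow_mul] at h2'
      obtain ⟨t, ht⟩ := hB h2 (((zpowers h1 ⊔ C).mul_mem_cancel_right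
        (pow_mem (mem_sup_right (hp h2 hh2)) _)).mp h2')
      exact hno t ht
  choose f hf using hall
  let φ : A → Fin r × ↥(A ⊓ C) := fun a =>
    (f a a.2, ⟨(h1 ^ (f a a.2 : ℕ))⁻¹ * a,
      mem_inf.mpr ⟨mul_mem (inv_mem (pow_mem hh1 _)) a.2, hf a a.2⟩⟩)
  have := Nat.card_le_card_of_injective φ (fun a b e => by
    simp only [φ, Prod.mk.injEq, Subtype.mk.injEq] at e
    obtain ⟨e1, e2⟩ := e
    rw [e1] at e2
    exact Subtype.ext (mul_left_cancel e2))
  rwa [Nat.card_prod, Nat.card_fin] at this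

/-- `⁅h, x⁆` is central for every `h ∈ S`. -/
def Cen (S : Sylow r G) (x : G) : Prop := ∀ h ∈ (S : Subgroup G), ⁅h, x⁆ ∈ center G

theorem Cen.pow {S : Sylow r G} {x : G} (hx : Cen S x) (n : ℕ) : Cen S (x ^ n) := fun h hh => by
  rw [comm_pow_right (hx h hh)]; exact pow_mem (hx h hh) n

/-- A normal non-central subgroup of a Sylow subgroup contains a non-central `t` with central
commutators and central `r`-th power. -/
theorem exists_cen (S : Sylow r G) (U : Subgroup G) (hUS : U ≤ (S : Subgroup G))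
    (hnorm : ∀ h ∈ (S : Subgroup G), ∀ u ∈ U, h * u * h⁻¹ ∈ U) (hne : ∃ u ∈ U, u ∉ center G) :
    ∃ t ∈ U, t ∉ center G ∧ t ^ r ∈ center G ∧ Cen S t := by
  classical
  haveI := S.isPGroup'.isNilpotent
  obtain ⟨c, hc⟩ := Group.IsNilpotent.nilpotent ↥(S : Subgroup G)
  have hex : ∃ i : ℕ, ∃ u : ↥(S : Subgroup G), (u : G) ∈ U ∧ (u : G) ∉ center G ∧
      u ∈ Subgroup.upperCentralSeries ↥(S : Subgroup G) i := by
    obtain ⟨u, hu, hu'⟩ := hne
    exact ⟨c, ⟨u, hUS hu⟩, hu, hu', by rw [hc]; trivial⟩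
  obtain ⟨u, hu, hu', hui⟩ := Nat.find_spec hex
  have hpos : Nat.find hex ≠ 0 := by
    intro h0
    rw [h0, Subgroup.upperCentralSeries_zero, mem_bot] at hui
    exact hu' (by rw [hui]; exact one_mem _)
  obtain ⟨j, hj⟩ := Nat.exists_eq_succ_of_ne_zero hpos
  rw [hj, Subgroup.mem_upperCentralSeries_succ_iff] at hui
  have hucen : Cen S (u : G) := by
    intro h hh
    by_contra hne'
    have h1 := Nat.find_min hex (m := j) (by omega)
    refine h1 ⟨⁅(⟨h, hh⟩ : ↥(S : Subgroup G)), u⁆, ?_, hne', ?_⟩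
    · show h * u * h⁻¹ * (u : G)⁻¹ ∈ U
      exact mul_mem (hnorm h hh u hu) (inv_mem hu)
    · rw [← commutatorElement_inv]; exact inv_mem (hui _)
  obtain ⟨k, hk⟩ := RElem.of_mem S.isPGroup' u.2
  have hex2 : ∃ e : ℕ, (u : G) ^ r ^ e ∈ center G := ⟨k, hk ▸ one_mem _⟩
  have hpos2 : Nat.find hex2 ≠ 0 := fun h0 => hu' (by simpa [h0] using Nat.find_spec hex2)
  obtain ⟨e, he⟩ := Nat.exists_eq_succ_of_ne_zero hpos2
  refine ⟨(u : G) ^ r ^ e, pow_mem hu _, Nat.find_min hex2 (by omega), ?_, hucen.pow _⟩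
  rw [← pow_mul, ← pow_succ]
  simpa [he] using Nat.find_spec hex2

/-- In a subgroup `B` containing `S`, `r`-subgroups are conjugate into `S`. -/
theorem conj_into {B : Subgroup G} {S : Sylow r G} (hS : (S : Subgroup G) ≤ B) {V : Subgroup G}
    (hV : IsPGroup r V) (hVB : V ≤ B) : ∃ b ∈ B, ∀ v ∈ V, b * v * b⁻¹ ∈ (S : Subgroup G) := by
  obtain ⟨T, hT⟩ := (hV.comap_of_injective B.subtype B.subtype_injective).exists_le_sylow
  obtain ⟨b, hb⟩ := MulAction.exists_smul_eq B T (S.subtype hS)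
  refine ⟨b, b.2, fun v hv => ?_⟩
  have h1 : b * ⟨v, hVB hv⟩ * b⁻¹ ∈ ((b • T : Sylow r B) : Subgroup B) := by
    rw [Sylow.coe_subgroup_smul, mem_pointwise_smul_iff_inv_smul_mem]
    have : (MulAut.conj b)⁻¹ • (b * ⟨v, hVB hv⟩ * b⁻¹) = (⟨v, hVB hv⟩ : B) := by
      simp [MulAut.smul_def, mul_assoc]
    rw [this]
    exact hT hv
  rw [hb] at h1
  exact h1

/-- The commutators with a central-commutator element are central of order dividing `r`. -/
theorem Cen.facts {S : Sylow r G} {t : G} (ht : Cen S t) (htr : t ^ r ∈ center G) :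
    (∀ h ∈ (S : Subgroup G), h ^ r ∈ centralizer ({t} : Set G)) ∧
    (∀ a ∈ (S : Subgroup G), ∀ b ∈ (S : Subgroup G), ⁅a, b⁆ ∈ centralizer ({t} : Set G)) := by
  constructor
  · intro h hh
    have h1 : ⁅h ^ r, t⁆ = 1 := by
      rw [comm_pow_left (ht h hh), ← comm_pow_right (ht h hh), commutatorElement_eq_one_iff_mul_comm]
      exact mem_center_iff.mp htr h
    exact mem_Cx.mpr (commutatorElement_eq_one_iff_mul_comm.mp h1)
  · intro a ha b hb
    refine mem_Cx.mpr (commutatorElement_eq_one_iff_mul_comm.mp ?_)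
    have hA := ht a ha
    have hB := ht b hb
    have hA' : ⁅a⁻¹, t⁆ ∈ center G := comm_inv_left_central hA ▸ inv_mem hA
    have hB' : ⁅b⁻¹, t⁆ ∈ center G := comm_inv_left_central hB ▸ inv_mem hB
    rw [commutatorElement_def a b, comm_mul_left_central hB', comm_mul_left_central hA',
      comm_mul_left_central hB, comm_inv_left_central hA, comm_inv_left_central hB,
      mem_center_iff.mp hA ⁅b, t⁆]
    group

/-- The centralizer of a central-commutator element meets `S` in a maximal `r`-subgroup. -/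
theorem Hyp.card_inf_cen (h : Hyp r N m) {S : Sylow r G} {t : G} (htS : t ∈ (S : Subgroup G))
    (ht : Cen S t) (ht' : t ∉ center G) :
    Nat.card ↥((S : Subgroup G) ⊓ centralizer ({t} : Set G)) = tau G r m := by
  refine le_antisymm (h.card_le_tau (h.sylow_le S htS) ht' (S.isPGroup'.to_le inf_le_left) inf_le_right) ?_
  obtain ⟨V, hV, hVt, hVc, -⟩ := h.exists_max (h.sylow_le S htS) ht'
  let B : Subgroup G :=
    { carrier := {g | ⁅g, t⁆ ∈ center G}
      one_mem' := by simp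
      mul_mem' := fun {a b} ha hb => by
        show ⁅a * b, t⁆ ∈ center G
        rw [comm_mul_left_central hb]; exact mul_mem hb ha
      inv_mem' := fun {a} ha => by
        show ⁅a⁻¹, t⁆ ∈ center G
        rw [comm_inv_left_central ha]; exact inv_mem ha }
  obtain ⟨b, hb, hbV⟩ := conj_into (B := B) (S := S) ht hV (fun v hv => by
    show ⁅v, t⁆ ∈ center G
    rw [commutatorElement_eq_one_iff_mul_comm.mpr (mem_Cx.mp (hVt hv))]; exact one_mem _)
  rw [← hVc]
  refine Nat.card_le_card_of_injective (fun v : V => (⟨b * v * b⁻¹, mem_inf.mpr ⟨hbV v v.2, ?_⟩⟩ :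
    ↥((S : Subgroup G) ⊓ centralizer ({t} : Set G)))) (fun a a' e => ?_)
  · obtain ⟨c, hc, hbt⟩ := comm_mem_center_iff.mp (show ⁅b, t⁆ ∈ center G from hb)
    have h1 := conj_mem_centralizer (g := b) (hVt v.2)
    rw [hbt] at h1
    rw [mem_Cx] at h1 ⊢
    rw [← mul_assoc, mem_center_iff.mp hc, mul_assoc c t, mul_assoc c] at h1
    exact mul_left_cancel h1
  · simp only [Subtype.mk.injEq, mul_left_inj, mul_right_inj] at e
    exact Subtype.ext e

theorem Hyp.eq_sylow_inf (h : Hyp r N m) {S : Sylow r G} {x : G} (hx : x ∈ N) (hx' : x ∉ center G)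
    {T : Subgroup G} (hTx : T ≤ centralizer ({x} : Set G)) (hTS : T ≤ (S : Subgroup G))
    (hTc : Nat.card T = tau G r m) : (S : Subgroup G) ⊓ centralizer ({x} : Set G) = T :=
  (eq_of_le_of_card_ge (le_inf hTS hTx)
    ((h.card_le_tau hx hx' (S.isPGroup'.to_le inf_le_left) inf_le_right).trans hTc.ge)).symm

/-- The Sylow `r`-subgroups of the centralizers have order `r * |Zr|`. -/
theorem Hyp.tau_eq (h : Hyp r N m) (hy : ∃ x : G, Mixed r N x) : tau G r m = r * Nat.card (Zr r G) := by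
  have hr : r.Prime := Fact.out
  obtain ⟨c, hc⟩ := IsPGroup.iff_card.mp (Zr_isPGroup (r := r) (G := G))
  obtain ⟨a, ha⟩ := h.tau_pow
  have hlt := h.Zr_lt_tau
  rw [hc, ha, Nat.pow_lt_pow_iff_right hr.one_lt] at hlt
  suffices hle : tau G r m ≤ r * Nat.card (Zr r G) by
    refine le_antisymm hle ?_
    rw [hc, ha, ← pow_succ']
    exact Nat.pow_le_pow_right hr.pos hlt
  by_contra hbig
  push Not at hbig
  have hsmall : ∀ (x : G), Mixed r N x → ∀ A : Subgroup G, IsPGroup r A → Nat.card A = tau G r m →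
      (∀ a ∈ A, a ∈ normalizer (centralizer ({x} : Set G) : Set G)) →
      (∀ a ∈ A, a ^ r ∈ centralizer ({x} : Set G)) →
      (∀ a ∈ A, ∀ b ∈ A, ⁅a, b⁆ ∈ centralizer ({x} : Set G)) →
      ∃ u ∈ A, u ∈ centralizer ({x} : Set G) ∧ u ∉ center G := by
    intro x hx A hA hAc hn hp hcm
    by_contra hno
    push Not at hno
    have hle : A ⊓ centralizer ({x} : Set G) ≤ Zr r G := fun u hu =>
      ⟨hno u (mem_inf.mp hu).1 (mem_inf.mp hu).2, RElem.of_mem hA (mem_inf.mp hu).1⟩
    have h1 := h.card_le_mul hx A hn hp hcm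
    have h2 := Subgroup.card_le_of_le hle
    have h3 := Nat.mul_le_mul_left r h2
    omega
  by_cases hI : ∃ (S : Sylow r G) (t : G), t ∈ (S : Subgroup G) ∧ Cen S t ∧ t ^ r ∈ center G ∧ Mixed r N t
  · obtain ⟨S, t, htS, ht, htr, htm⟩ := hI
    set T := (S : Subgroup G) ⊓ centralizer ({t} : Set G)
    haveI := h.normal
    -- every element of `N` centralises a conjugate of `T`
    have hcov : ∀ g : N, ∃ b : N, b * g * b⁻¹ ∈ (centralizer (T : Set G)).subgroupOf N := by
      intro g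
      by_cases hg : (g : G) ∈ center G
      · exact ⟨1, mem_subgroupOf.mpr (mem_centralizer_iff.mpr fun y _ => by
          simpa using (mem_center_iff.mp hg y))⟩
      obtain ⟨x, hxr, hx, hCx⟩ := h.exists_rep g.2 hg
      have hxN := h.mem_of_rElem hxr
      obtain ⟨U, hU, hUx, hUc, hxU⟩ := h.exists_max hxN hx
      obtain ⟨b, hb, hbU⟩ := conj_into (h.sylow_le S) hU (fun u hu => h.mem_of_rElem (RElem.of_mem hU hu))
      refine ⟨⟨b, hb⟩, mem_subgroupOf.mpr (mem_centralizer_iff.mpr fun y hy => ?_)⟩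
      set x' := b * x * b⁻¹
      have hx'S : x' ∈ (S : Subgroup G) := hbU x (hxU hxr)
      have hx' : x' ∉ center G := fun hc => hx (by
        have := (inferInstance : (center G).Normal).conj_mem _ hc b⁻¹
        rwa [show b⁻¹ * x' * b⁻¹⁻¹ = x by simp only [x']; group] at this)
      have hcen : centralizer ({x'} : Set G) = centralizer ({t} : Set G) := by
        by_cases hxt : x' ∈ centralizer ({t} : Set G)
        · exact h.mixed_eq htm (h.sylow_le S hx'S) hx' hxt
        exfalso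
        let A : Subgroup G := U.map (MulAut.conj b).toMonoidHom
        have hAmem : ∀ a ∈ A, a ∈ (S : Subgroup G) ∧ a ∈ centralizer ({x'} : Set G) := by
          rintro _ ⟨u, hu, rfl⟩
          exact ⟨hbU u hu, conj_mem_centralizer (hUx hu)⟩
        obtain ⟨u, huA, hut, hu'⟩ := hsmall t htm A (hU.map _)
          (by rw [card_map_of_injective (MulAut.conj b).injective, hUc])
          (fun a ha => h.mem_normalizer htm (by
            obtain ⟨z, hz, e⟩ := comm_mem_center_iff.mp (ht a (hAmem a ha).1)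
            rw [e]
            exact mem_Cx.mpr (Commute.mul_left (mem_center_iff.mp hz t).symm (Commute.refl t)).eq))
          (fun a ha => (ht.facts htr).1 a (hAmem a ha).1)
          (fun a ha a' ha' => (ht.facts htr).2 a (hAmem a ha).1 a' (hAmem a' ha').1)
        refine hxt ?_
        rw [← h.mixed_eq htm (h.sylow_le S (hAmem u huA).1) hu' hut]
        exact mem_Cx_comm.mp (hAmem u huA).2
      have hgx : (g : G) ∈ centralizer ({x} : Set G) := hCx ▸ mem_Cx.mpr rfl
      have h1 : y ∈ centralizer ({x'} : Set G) := hcen.symm ▸ (mem_inf.mp hy).2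
      have h2 := conj_mem_centralizer (g := b⁻¹) h1
      rw [show b⁻¹ * x' * b⁻¹⁻¹ = x by simp only [x']; group, ← hCx, inv_inv, mem_Cx] at h2
      show y * (b * (g : G) * b⁻¹) = b * (g : G) * b⁻¹ * y
      calc y * (b * (g : G) * b⁻¹) = b * (b⁻¹ * y * b * (g : G)) * b⁻¹ := by group
        _ = b * ((g : G) * (b⁻¹ * y * b)) * b⁻¹ := by rw [h2]
        _ = b * (g : G) * b⁻¹ * y := by group
    have htop := subgroupOf_eq_top.mp (CfsgLib.GroupBasics.eq_top_of_forall_conj_mem hcov)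
    refine h.not_cen_sylow S (h.sylow_le S htS) htm.2.1 fun s hs => mem_Cx.mpr ?_
    exact (mem_centralizer_iff.mp (htop (h.sylow_le S hs)) t (mem_inf.mpr ⟨htS, mem_Cx.mpr rfl⟩)).symm
  · push Not at hI
    obtain ⟨x, hx⟩ := hy
    have hxN := h.mem_of_rElem hx.1
    obtain ⟨T, hT, hTx, hTc, hxT⟩ := h.exists_max hxN hx.2.1
    obtain ⟨S, hS⟩ := hT.exists_le_sylow
    have hST := h.eq_sylow_inf hxN hx.2.1 hTx hS hTc
    obtain ⟨t, htS, ht', htr, ht⟩ := exists_cen S (S : Subgroup G) le_rfl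
      (fun a ha u hu => mul_mem (mul_mem ha hu) (inv_mem ha)) (h.exists_noncentral S)
    -- a conjugate of `T` normalising `T`
    set NT := (normalizer (T : Set G)).subgroupOf (S : Subgroup G) with hNT
    haveI := S.isPGroup'.isNilpotent
    have hNTne : NT ≠ ⊤ := by
      intro htop
      rw [hNT, subgroupOf_eq_top] at htop
      obtain ⟨u, huT, hu', hur, hu⟩ := exists_cen S T hS
        (fun a ha u hu => (mem_normalizer_iff.mp (htop ha) u).mp hu) ⟨x, hxT hx.1, hx.2.1⟩
      refine hI S u (hS huT) hu hur ⟨RElem.of_mem hT huT, hu', ?_⟩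
      obtain ⟨y, hy, hy', hyr, hyx⟩ := hx.2.2
      exact ⟨y, hy, hy', hyr, h.mixed_eq hx (h.sylow_le S (hS huT)) hu' (hTx huT) ▸ hyx⟩
    obtain ⟨g, hg, hgn⟩ := SetLike.exists_of_lt
      (normalizerCondition_of_isNilpotent (G := ↥(S : Subgroup G)) NT (lt_top_iff_ne_top.mpr hNTne))
    let A : Subgroup G := T.map (MulAut.conj (g : G)).toMonoidHom
    have hAN : ∀ a ∈ A, a ∈ normalizer (T : Set G) := by
      rintro _ ⟨u, hu, rfl⟩
      have h1 : (⟨u, hS hu⟩ : ↥(S : Subgroup G)) ∈ NT :=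
        mem_subgroupOf.mpr (le_normalizer hu)
      exact mem_subgroupOf.mp ((mem_normalizer_iff.mp hg _).mp h1)
    have hpow : ∀ w ∈ T, w ^ r ∈ center G := by
      intro w hw
      by_contra hwr
      have h1 : t ∈ centralizer ({w ^ r} : Set G) := by
        rw [mem_Cx_comm]
        exact (ht.facts htr).1 w (hS hw)
      rw [h.mixed_eq hx (h.mem_of_rElem ((RElem.of_mem hT hw).pow r)) hwr
        (pow_mem (hTx hw) r)] at h1
      refine hI S t htS ht htr ⟨RElem.of_mem S.isPGroup' htS, ht', ?_⟩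
      obtain ⟨y, hy, hy', hyr, hyx⟩ := hx.2.2
      exact ⟨y, hy, hy', hyr, h.mixed_eq hx (h.sylow_le S htS) ht' h1 ▸ hyx⟩
    obtain ⟨u, huA, hux, hu'⟩ := hsmall x hx A (hT.map _)
      (by rw [card_map_of_injective (MulAut.conj (g : G)).injective, hTc])
      (fun a ha => h.mem_normalizer hx (hTx ((mem_normalizer_iff.mp (hAN a ha) x).mp (hxT hx.1))))
      (by
        rintro _ ⟨w, hw, rfl⟩
        rw [← map_pow]
        refine mem_Cx.mpr ?_
        show (g : G) * w ^ r * (g : G)⁻¹ * x = x * ((g : G) * w ^ r * (g : G)⁻¹)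
        rw [mem_center_iff.mp (hpow w hw) g, mul_inv_cancel_right]
        exact ((mem_center_iff.mp (hpow w hw)) x).symm)
      (by
        rintro _ ⟨w, hw, rfl⟩ _ ⟨w', hw', rfl⟩
        rw [← map_commutatorElement, commutatorElement_eq_one_iff_mul_comm.mpr
          (h.mixed_comm hx (h.mem_of_rElem (RElem.of_mem hT hw')) (hTx hw') (hTx hw)), map_one]
        exact one_mem _)
    apply hgn
    -- `g` normalises `C(x)`, hence `T`
    have huN : u ∈ N := h.mem_of_rElem (RElem.of_mem (hT.map _) huA)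
    have hux' : u ∈ centralizer ({(g : G) * x * (g : G)⁻¹} : Set G) := by
      obtain ⟨w, hw, rfl⟩ := huA
      exact conj_mem_centralizer (hTx hw)
    have hgC : (g : G) ∈ normalizer (centralizer ({x} : Set G) : Set G) := mem_normalizer_Cx (by
      rw [← h.mixed_eq (h.mixed_conj hx g) huN hu' hux', h.mixed_eq hx huN hu' hux])
    rw [hNT, mem_subgroupOf, ← hST, mem_normalizer_iff]
    intro v
    rw [mem_inf, mem_inf, ← mem_normalizer_iff.mp hgC v]
    refine and_congr_left fun _ => ⟨fun hv => mul_mem (mul_mem g.2 hv) (inv_mem g.2), fun hv => ?_⟩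
    have := mul_mem (mul_mem (inv_mem g.2) hv) g.2
    rwa [show (g : G)⁻¹ * ((g : G) * v * (g : G)⁻¹) * g = v by group] at this

end CfsgLib.TwoSizes69
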