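import Cfsg.Agent.TwoSizes69.Basic

/-!
# Lines and Sylow subgroups

Under `Hyp'` every maximal `r`-subgroup of a centralizer is a "line" `Tx r x = ⟨x⟩ O_r(Z(G))`.
This file bounds the Sylow `r`-subgroups and shows that a Sylow subgroup is determined by its
abelian maximal subgroup through a non-central-commutator line.
-/

set_option autoImplicit false

namespace CfsgLib.TwoSizes69

open Subgroup
open scoped commutatorElement

variable {G : Type*} [Group G] [Finite G] {r : ℕ} [Fact r.Prime] {N : Subgroup G} {m : ℕ}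

/-- `Hyp` with a mixed element. -/
structure Hyp' (r : ℕ) (N : Subgroup G) (m : ℕ) : Prop extends Hyp r N m where
  mixed : ∃ x : G, Mixed r N x

/-- The line of `x`. -/
def Tx (r : ℕ) (x : G) : Subgroup G := zpowers x ⊔ Zr r G

/-- Non-central `r`-element. -/
def NR (r : ℕ) (x : G) : Prop := RElem r x ∧ x ∉ center G

/-- The elements with central commutator with `x`. -/
def Bsub (x : G) : Subgroup G where
  carrier := {g | ⁅g, x⁆ ∈ center G}
  one_mem' := by simp
  mul_mem' := fun {a b} ha hb => by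
    show ⁅a * b, x⁆ ∈ center G
    rw [comm_mul_left_central hb]; exact mul_mem hb ha
  inv_mem' := fun {a} ha => by
    show ⁅a⁻¹, x⁆ ∈ center G
    rw [comm_inv_left_central ha]; exact inv_mem ha

omit [Finite G] in
theorem mem_Bsub {g x : G} : g ∈ Bsub x ↔ ⁅g, x⁆ ∈ center G := Iff.rfl

omit [Finite G] in
theorem comm_swap {g x : G} : ⁅g, x⁆ ∈ center G ↔ ⁅x, g⁆ ∈ center G := by
  rw [← commutatorElement_inv g x, inv_mem_iff]

omit [Finite G] in
theorem center_le_Bsub (x : G) : center G ≤ Bsub x := fun g hg => by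
  rw [mem_Bsub, commutatorElement_eq_one_iff_mul_comm.mpr ((mem_center_iff.mp hg x).symm)]
  exact one_mem _

/-- Elements with central commutators with all of `A`. -/
def CenSet (A : Subgroup G) : Subgroup G := ⨅ a ∈ A, Bsub a

omit [Finite G] in
theorem mem_CenSet {A : Subgroup G} {x : G} : x ∈ CenSet A ↔ ∀ a ∈ A, ⁅a, x⁆ ∈ center G := by
  simp only [CenSet, mem_iInf, mem_Bsub]
  exact forall₂_congr fun a _ => comm_swap

omit [Fact r.Prime] in
theorem cen_iff {S : Sylow r G} {x : G} : Cen S x ↔ x ∈ CenSet (S : Subgroup G) := mem_CenSet.symm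

omit [Finite G] in
theorem Tx_le {r : ℕ} {x : G} {H : Subgroup G} (hx : x ∈ H) (hZ : Zr r G ≤ H) : Tx r x ≤ H :=
  sup_le (zpowers_le.mpr hx) hZ

omit [Finite G] in
theorem mem_Tx_self (r : ℕ) (x : G) : x ∈ Tx r x := mem_sup_left (mem_zpowers x)

omit [Finite G] in
theorem Zr_le_Tx (r : ℕ) (x : G) : Zr r G ≤ Tx r x := le_sup_right

omit [Finite G] in
theorem center_le_Cx (x : G) : center G ≤ centralizer ({x} : Set G) := fun z hz =>
  mem_Cx.mpr ((mem_center_iff.mp hz x).symm)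

omit [Finite G] in
theorem Tx_le_Cx (r : ℕ) (x : G) : Tx r x ≤ centralizer ({x} : Set G) :=
  Tx_le (mem_Cx.mpr rfl) ((Zr_le_center r).trans (center_le_Cx x))

omit [Finite G] in
theorem Cx_le_centralizer_Tx (r : ℕ) (x : G) :
    centralizer ({x} : Set G) ≤ centralizer (Tx r x : Set G) := by
  rw [le_centralizer_iff]
  refine Tx_le (mem_centralizer_iff.mpr fun y hy => mem_Cx.mp hy) fun z hz => ?_
  exact mem_centralizer_iff.mpr fun y _ => mem_center_iff.mp hz.1 y

theorem isPGroup_Tx {x : G} (hx : RElem r x) : IsPGroup r (Tx r x) :=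
  haveI : (Zr r G).Normal := ⟨fun y hy g => by
    rw [mem_center_iff.mp hy.1 g, mul_inv_cancel_right]; exact hy⟩
  IsPGroup.to_sup_of_normal_right' (isPGroup_zpowers hx) Zr_isPGroup le_normalizer_of_normal

theorem mul_card_le {U V : Subgroup G} (hV : IsPGroup r V) (hlt : U < V) :
    r * Nat.card U ≤ Nat.card V := by
  obtain ⟨i, hi⟩ := IsPGroup.iff_card.mp (hV.to_le hlt.le)
  obtain ⟨j, hj⟩ := IsPGroup.iff_card.mp hV
  have h1 := Set.Finite.card_lt_card (Set.toFinite _) (SetLike.coe_ssubset_coe.mpr hlt)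
  rw [SetLike.coe_sort_coe, SetLike.coe_sort_coe, hi, hj,
    Nat.pow_lt_pow_iff_right (Fact.out : r.Prime).one_lt] at h1
  rw [hi, hj, ← pow_succ']
  exact Nat.pow_le_pow_right (Fact.out : r.Prime).pos h1

theorem le_of_Zr_le_of_relElem {x : G} {U : Subgroup G} (hU : IsPGroup r U) (hx : x ∈ U)
    (hZ : Zr r G ≤ U) : Tx r x ≤ U ∧ RElem r x := ⟨Tx_le hx hZ, RElem.of_mem hU hx⟩

theorem Hyp'.card_Tx (h : Hyp' r N m) {x : G} (hx : NR r x) : Nat.card (Tx r x) = tau G r m := by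
  refine le_antisymm (h.toHyp.card_le_tau (h.mem_of_rElem hx.1) hx.2 (isPGroup_Tx hx.1) (Tx_le_Cx r x)) ?_
  rw [h.toHyp.tau_eq h.mixed]
  exact mul_card_le (isPGroup_Tx hx.1)
    (lt_of_le_of_ne (Zr_le_Tx r x) fun e => hx.2 ((e ▸ mem_Tx_self r x : x ∈ Zr r G).1))

theorem Hyp'.mem_Tx (h : Hyp' r N m) {x w : G} (hx : NR r x) (hw : RElem r w)
    (hwx : w ∈ centralizer ({x} : Set G)) : w ∈ Tx r x := by
  have hU : IsPGroup r (zpowers w ⊔ Tx r x : Subgroup G) :=
    IsPGroup.to_sup_of_normal_right' (isPGroup_zpowers hw) (isPGroup_Tx hx.1)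
      ((zpowers_le.mpr hwx).trans ((Cx_le_centralizer_Tx r x).trans (centralizer_le_normalizer _)))
  have h1 := h.toHyp.card_le_tau (h.mem_of_rElem hx.1) hx.2 hU (sup_le (zpowers_le.mpr hwx) (Tx_le_Cx r x))
  rw [← h.card_Tx hx] at h1
  exact (eq_of_le_of_card_ge le_sup_right h1).symm ▸ mem_sup_left (mem_zpowers w)

theorem Hyp'.eq_of_mem (h : Hyp' r N m) {x g : G} (hx : NR r x) (hg : g ∈ N) (hg' : g ∉ center G)
    (hgx : g ∈ centralizer ({x} : Set G)) : centralizer ({g} : Set G) = centralizer ({x} : Set G) := by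
  have hxN := h.mem_of_rElem hx.1
  obtain ⟨a, b, hab, ha, hb, har, hbr⟩ := exists_parts' (r := r) g
  refine (h.toHyp.eq_of_le hxN hx.2 hg hg' ?_).symm
  intro u hu
  rw [hab]
  refine mem_Cx.mpr (Commute.mul_right ?_ ?_).eq
  · exact (mem_centralizer_iff.mp (Cx_le_centralizer_Tx r x hu) a
      (h.mem_Tx hx har (zpowers_le.mpr hgx ha))).symm
  · by_cases hb' : b ∈ center G
    · exact mem_center_iff.mp hb' u
    · rw [h.toHyp.eq_of_commute hxN hx.2 (zpowers_le.mpr hg hb) hb' hx.1 hbr (zpowers_le.mpr hgx hb)] at hu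
      exact mem_Cx.mp hu

theorem Hyp'.D_comm (h : Hyp' r N m) {x a b : G} (hx : NR r x) (ha : a ∈ N)
    (hax : a ∈ centralizer ({x} : Set G)) (hbx : b ∈ centralizer ({x} : Set G)) : b * a = a * b := by
  by_cases ha' : a ∈ center G
  · exact mem_center_iff.mp ha' b
  · rw [← h.eq_of_mem hx ha ha' hax] at hbx
    exact mem_Cx.mp hbx

theorem Hyp'.Tx_eq (h : Hyp' r N m) {x w : G} (hx : NR r x) (hw : NR r w)
    (hwx : w ∈ centralizer ({x} : Set G)) : Tx r w = Tx r x :=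
  eq_of_le_of_card_ge (Tx_le (h.mem_Tx hx hw.1 hwx) (Zr_le_Tx r x))
    (by rw [h.card_Tx hx, h.card_Tx hw])

theorem Hyp'.pow_r (h : Hyp' r N m) {g : G} (hg : RElem r g) : g ^ r ∈ center G := by
  by_cases hg' : g ∈ center G
  · exact pow_mem hg' r
  have hx : NR r g := ⟨hg, hg'⟩
  haveI : ((Zr r G).subgroupOf (Tx r g)).Normal :=
    ⟨fun y hy a => by
      rw [mem_subgroupOf] at hy ⊢
      rw [coe_mul, coe_mul, mem_center_iff.mp hy.1 a, coe_inv, mul_inv_cancel_right]; exact hy⟩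
  have h1 := pow_index_mem ((Zr r G).subgroupOf (Tx r g)) ⟨g, mem_Tx_self r g⟩
  have h2 := ((Zr r G).subgroupOf (Tx r g)).card_mul_index
  rw [Nat.card_congr (subgroupOfEquivOfLe (Zr_le_Tx r g)).toEquiv, h.card_Tx hx,
    h.toHyp.tau_eq h.mixed, mul_comm r] at h2
  rw [Nat.eq_of_mul_eq_mul_left Nat.card_pos h2, mem_subgroupOf] at h1
  exact (by simpa using h1.1)

theorem Hyp'.mixed_congr (h : Hyp' r N m) {x w : G} (hx : Mixed r N x) (hw : NR r w)
    (hwx : w ∈ centralizer ({x} : Set G)) : Mixed r N w := by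
  obtain ⟨y, hy, hy', hyr, hyx⟩ := hx.2.2
  exact ⟨hw.1, hw.2, y, hy, hy', hyr, h.eq_of_mem ⟨hx.1, hx.2.1⟩ (h.mem_of_rElem hw.1) hw.2 hwx ▸ hyx⟩

theorem nr_of_mem {S : Sylow r G} {x : G} (hx : x ∈ (S : Subgroup G)) (hx' : x ∉ center G) : NR r x :=
  ⟨RElem.of_mem S.isPGroup' hx, hx'⟩

omit [Fact r.Prime] in
theorem nr_conj {x : G} (hx : NR r x) (g : G) : NR r (g * x * g⁻¹) :=
  ⟨hx.1.conj g, fun hc => hx.2 (by
    have := (inferInstance : (center G).Normal).conj_mem _ hc g⁻¹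
    rwa [show g⁻¹ * (g * x * g⁻¹) * g⁻¹⁻¹ = x by group] at this)⟩

theorem Tx_le_sylow {S : Sylow r G} {x : G} (hx : x ∈ (S : Subgroup G)) : Tx r x ≤ (S : Subgroup G) :=
  Tx_le hx (Zr_le_sylow S)

theorem Tx_le_CenSet {A : Subgroup G} {x : G} (hx : x ∈ CenSet A) : Tx r x ≤ CenSet A :=
  Tx_le hx fun z hz => mem_CenSet.mpr fun a _ => comm_swap.mp (center_le_Bsub a hz.1)

theorem Hyp'.card_mul_tau_le (h : Hyp' r N m) {x t : G} (hx : NR r x) (ht : NR r t)
    (hne : t ∉ Tx r x) {U : Subgroup G} (hU : IsPGroup r U) (h1 : Tx r x ≤ U) (h2 : Tx r t ≤ U) :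
    r * tau G r m ≤ Nat.card U := by
  rw [← h.card_Tx hx]
  exact (mul_card_le hU (lt_of_le_of_ne h1 fun e => hne (e ▸ h2 (mem_Tx_self r t))))

/-- A mixed element with central commutators makes all commutators of `S` central. -/
theorem Hyp'.cen_mixed_all (h : Hyp' r N m) {S : Sylow r G} {t : G} (htS : t ∈ (S : Subgroup G))
    (ht : Cen S t) (htm : Mixed r N t) : (S : Subgroup G) ≤ CenSet (S : Subgroup G) := by
  have hnt : NR r t := ⟨htm.1, htm.2.1⟩
  have hf := ht.facts (h.pow_r htm.1)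
  obtain ⟨h1, hh1, hh1C⟩ := SetLike.not_le_iff_exists.mp
    (h.toHyp.not_cen_sylow S (h.sylow_le S htS) htm.2.1)
  have hle := h.toHyp.card_le_mul htm (S : Subgroup G)
    (fun a ha => h.toHyp.mem_normalizer htm (by
      obtain ⟨z, hz, e⟩ := comm_mem_center_iff.mp (ht a ha)
      rw [e]
      exact mem_Cx.mpr (Commute.mul_left (mem_center_iff.mp hz t).symm (Commute.refl t)).eq))
    hf.1 hf.2
  rw [h.toHyp.card_inf_cen htS ht htm.2.1] at hle
  have hSE : (S : Subgroup G) = zpowers h1 ⊔ Tx r t := by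
    refine (eq_of_le_of_card_ge (sup_le (zpowers_le.mpr hh1) (Tx_le_sylow htS)) (hle.trans ?_)).symm
    rw [← h.card_Tx hnt]
    exact mul_card_le (S.isPGroup'.to_le (sup_le (zpowers_le.mpr hh1) (Tx_le_sylow htS)))
      (lt_of_le_of_ne le_sup_right fun e =>
        hh1C (Tx_le_Cx r t (e ▸ mem_sup_left (mem_zpowers h1))))
  have hT : Tx r t ≤ CenSet (S : Subgroup G) := Tx_le_CenSet (cen_iff.mp ht)
  have hB : (S : Subgroup G) ≤ Bsub h1 := by
    rw [hSE]
    refine sup_le (zpowers_le.mpr (mem_Bsub.mpr (by simp))) fun c hc => ?_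
    exact comm_swap.mp (mem_CenSet.mp (hT hc) h1 hh1)
  intro u hu
  rw [hSE] at hu
  exact sup_le (zpowers_le.mpr (mem_CenSet.mpr fun a ha => mem_Bsub.mp (hB ha))) hT hu

theorem mem_smul_sylow {S : Sylow r G} {b x : G} :
    x ∈ ((b • S : Sylow r G) : Subgroup G) ↔ b⁻¹ * x * b ∈ (S : Subgroup G) := by
  rw [Sylow.coe_subgroup_smul, mem_pointwise_smul_iff_inv_smul_mem]
  simp [MulAut.smul_def, MulAut.inv_def, MulAut.conj_symm_apply]

omit [Finite G] in
theorem comm_conj_iff {a x g : G} :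
    ⁅g * a * g⁻¹, g * x * g⁻¹⁆ ∈ center G ↔ ⁅a, x⁆ ∈ center G := by
  rw [show ⁅g * a * g⁻¹, g * x * g⁻¹⁆ = g * ⁅a, x⁆ * g⁻¹ by simp only [commutatorElement_def]; group]
  constructor
  · intro hc
    have := (inferInstance : (center G).Normal).conj_mem _ hc g⁻¹
    rwa [show g⁻¹ * (g * ⁅a, x⁆ * g⁻¹) * g⁻¹⁻¹ = ⁅a, x⁆ by group] at this
  · exact fun hc => (inferInstance : (center G).Normal).conj_mem _ hc g

theorem cen_smul {S : Sylow r G} {x : G} (hx : Cen S x) (b : G) : Cen (b • S) (b * x * b⁻¹) := by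
  intro a ha
  rw [mem_smul_sylow] at ha
  have := comm_conj_iff (g := b).mpr (hx _ ha)
  rwa [show b * (b⁻¹ * a * b) * b⁻¹ = a by group] at this

theorem smul_mem {S : Sylow r G} {x : G} (hx : x ∈ (S : Subgroup G)) (b : G) :
    b * x * b⁻¹ ∈ ((b • S : Sylow r G) : Subgroup G) := by
  rw [mem_smul_sylow, show b⁻¹ * (b * x * b⁻¹) * b = x by group]; exact hx

/-- If some commutator in a Sylow subgroup is not central, elements with central commutators are
not mixed. -/
theorem Hyp'.not_mixed_of_cen (h : Hyp' r N m)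
    (hn : ∃ (S : Sylow r G) (u : G), u ∈ (S : Subgroup G) ∧ ¬ Cen S u)
    {S' : Sylow r G} {t : G} (htS : t ∈ (S' : Subgroup G)) (ht : Cen S' t) : ¬ Mixed r N t := by
  obtain ⟨S, u, hu, hnu⟩ := hn
  intro htm
  obtain ⟨b, hb⟩ := MulAction.exists_smul_eq G S' S
  apply hnu
  rw [cen_iff]
  refine h.cen_mixed_all (t := b * t * b⁻¹) ?_ ?_ (h.toHyp.mixed_conj htm b) hu
  · rw [← hb]; exact smul_mem htS b
  · rw [← hb]; exact cen_smul ht b

theorem Hyp'.exists_mixed_sylow (h : Hyp' r N m) :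
    ∃ (S : Sylow r G) (x : G), x ∈ (S : Subgroup G) ∧ Mixed r N x := by
  obtain ⟨x, hx⟩ := h.mixed
  obtain ⟨S, hS⟩ := (isPGroup_zpowers hx.1).exists_le_sylow
  exact ⟨S, x, hS (mem_zpowers x), hx⟩

theorem Hyp'.exists_t (h : Hyp' r N m) (S : Sylow r G) :
    ∃ t ∈ (S : Subgroup G), t ∉ center G ∧ Cen S t := by
  obtain ⟨t, ht, ht', -, htc⟩ := exists_cen S (S : Subgroup G) le_rfl
    (fun a ha u hu => mul_mem (mul_mem ha hu) (inv_mem ha)) (h.toHyp.exists_noncentral S)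
  exact ⟨t, ht, ht', htc⟩

theorem Hyp'.comm_mem_Tx (h : Hyp' r N m) {S : Sylow r G} {t : G} (htS : t ∈ (S : Subgroup G))
    (ht : Cen S t) (ht' : t ∉ center G) {a b : G} (ha : a ∈ (S : Subgroup G))
    (hb : b ∈ (S : Subgroup G)) : ⁅a, b⁆ ∈ Tx r t := by
  have hm : ⁅a, b⁆ ∈ (S : Subgroup G) := by
    rw [commutatorElement_def]
    exact mul_mem (mul_mem (mul_mem ha hb) (inv_mem ha)) (inv_mem hb)
  exact h.mem_Tx (nr_of_mem htS ht') (RElem.of_mem S.isPGroup' hm)
    ((ht.facts (h.pow_r (RElem.of_mem S.isPGroup' htS))).2 a ha b hb)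

theorem Hyp'.Tx_sup_le_P (h : Hyp' r N m) {S : Sylow r G} {x t : G} (hx : x ∈ (S : Subgroup G))
    (htS : t ∈ (S : Subgroup G)) (ht : Cen S t) :
    Tx r x ⊔ Tx r t ≤ (S : Subgroup G) ⊓ Bsub x :=
  sup_le (le_inf (Tx_le_sylow hx) (Tx_le (mem_Bsub.mpr (by simp)) ((Zr_le_center r).trans (center_le_Bsub x))))
    (le_inf (Tx_le_sylow htS) (Tx_le (mem_Bsub.mpr (comm_swap.mp (ht x hx)))
      ((Zr_le_center r).trans (center_le_Bsub x))))

theorem Hyp'.not_mem_Tx (h : Hyp' r N m) {S : Sylow r G} {x t : G} (hx : x ∈ (S : Subgroup G))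
    (hnx : ¬ Cen S x) (htS : t ∈ (S : Subgroup G)) (ht : Cen S t) (ht' : t ∉ center G) :
    t ∉ Tx r x := by
  intro htx
  have hx' : x ∉ center G := fun hc => hnx (fun a _ => comm_swap.mp (center_le_Bsub a hc))
  have e := h.Tx_eq (nr_of_mem hx hx') (nr_of_mem htS ht') (Tx_le_Cx r x htx)
  exact hnx (cen_iff.mpr (Tx_le_CenSet (cen_iff.mp ht) (e.symm ▸ mem_Tx_self r x)))

/-- The order of a non-abelian-modulo-center Sylow subgroup. -/
theorem Hyp'.card_sylow_le (h : Hyp' r N m)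
    (hn : ∃ (S : Sylow r G) (u : G), u ∈ (S : Subgroup G) ∧ ¬ Cen S u) (S' : Sylow r G) :
    Nat.card (S' : Subgroup G) ≤ r * (r * tau G r m) := by
  obtain ⟨S, x, hxS, hxm⟩ := h.exists_mixed_sylow
  have hnx : ¬ Cen S x := fun hc => h.not_mixed_of_cen hn hxS hc hxm
  obtain ⟨t, htS, ht', ht⟩ := h.exists_t S
  have hxn : NR r x := ⟨hxm.1, hxm.2.1⟩
  set P := (S : Subgroup G) ⊓ Bsub x
  have hP : Nat.card P ≤ r * tau G r m := by
    refine (h.toHyp.card_le_mul hxm P (fun a ha => h.toHyp.mem_normalizer hxm ?_) ?_ ?_).trans ?_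
    · obtain ⟨z, hz, e⟩ := comm_mem_center_iff.mp (mem_inf.mp ha).2
      rw [e]
      exact mem_Cx.mpr (Commute.mul_left (mem_center_iff.mp hz x).symm (Commute.refl x)).eq
    · intro a ha
      refine mem_Cx.mpr (commutatorElement_eq_one_iff_mul_comm.mp ?_)
      rw [comm_pow_left (mem_inf.mp ha).2, ← comm_pow_right (mem_inf.mp ha).2,
        commutatorElement_eq_one_iff_mul_comm]
      exact mem_center_iff.mp (h.pow_r hxm.1) a
    · intro a ha b hb
      refine mem_Cx.mpr (commutatorElement_eq_one_iff_mul_comm.mp ?_)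
      have hA := mem_Bsub.mp (mem_inf.mp ha).2
      have hB := mem_Bsub.mp (mem_inf.mp hb).2
      have hA' : ⁅a⁻¹, x⁆ ∈ center G := comm_inv_left_central hA ▸ inv_mem hA
      have hB' : ⁅b⁻¹, x⁆ ∈ center G := comm_inv_left_central hB ▸ inv_mem hB
      rw [commutatorElement_def a b, comm_mul_left_central hB', comm_mul_left_central hA',
        comm_mul_left_central hB, comm_inv_left_central hA, comm_inv_left_central hB,
        mem_center_iff.mp hA ⁅b, x⁆]
      group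
    · refine Nat.mul_le_mul_left r ?_
      rw [← h.card_Tx hxn]
      refine Subgroup.card_le_of_le fun a ha => h.mem_Tx hxn ?_ (mem_inf.mp ha).2
      exact RElem.of_mem S.isPGroup' (mem_inf.mp (mem_inf.mp ha).1).1
  have hidx : P.relIndex (S : Subgroup G) ≤ r := by
    have hTt : Nat.card (Tx r t) = r * Nat.card (Zr r G) := by
      rw [h.card_Tx (nr_of_mem htS ht'), h.toHyp.tau_eq h.mixed]
    have hq : Nat.card (Tx r t ⧸ (Zr r G).subgroupOf (Tx r t)) = r := by
      have h2 := ((Zr r G).subgroupOf (Tx r t)).card_mul_index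
      rw [Nat.card_congr (subgroupOfEquivOfLe (Zr_le_Tx r t)).toEquiv, hTt, mul_comm r] at h2
      exact Nat.eq_of_mul_eq_mul_left Nat.card_pos h2
    refine le_of_le_of_eq ?_ hq
    refine Nat.card_le_card_of_injective
      (fun q : ↥(S : Subgroup G) ⧸ P.subgroupOf (S : Subgroup G) =>
        (QuotientGroup.mk ⟨⁅(q.out : G), x⁆, h.comm_mem_Tx htS ht ht' q.out.2 hxS⟩ :
          Tx r t ⧸ (Zr r G).subgroupOf (Tx r t))) (fun q q' e => ?_)
    rw [QuotientGroup.eq, mem_subgroupOf] at e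
    have hc : ⁅(q.out : G), x⁆⁻¹ * ⁅(q'.out : G), x⁆ ∈ center G := e.1
    have hmem : (q.out : G)⁻¹ * q'.out ∈ P := by
      refine mem_inf.mpr ⟨mul_mem (inv_mem q.out.2) q'.out.2, mem_Bsub.mpr ?_⟩
      rw [show ⁅(q.out : G)⁻¹ * q'.out, x⁆ = (q.out : G)⁻¹ * ⁅(q'.out : G), x⁆ * ⁅(q.out : G), x⁆⁻¹ * q.out by
        simp only [commutatorElement_def]; group]
      have hc' : ⁅(q'.out : G), x⁆ * ⁅(q.out : G), x⁆⁻¹ ∈ center G := by
        have := (inferInstance : (center G).Normal).conj_mem _ hc ⁅(q.out : G), x⁆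
        rwa [mul_inv_cancel_left] at this
      have := (inferInstance : (center G).Normal).conj_mem _ hc' (q.out : G)⁻¹
      rw [inv_inv, ← mul_assoc] at this
      exact this
    have h3 : ((q.out : ↥(S : Subgroup G)) : ↥(S : Subgroup G) ⧸ P.subgroupOf (S : Subgroup G)) =
        (q'.out : ↥(S : Subgroup G) ⧸ P.subgroupOf (S : Subgroup G)) :=
      QuotientGroup.eq.mpr (by simpa [mem_subgroupOf] using hmem)
    simpa using h3
  have hS : Nat.card (S : Subgroup G) = Nat.card P * P.relIndex (S : Subgroup G) := by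
    rw [← Nat.card_congr (subgroupOfEquivOfLe (inf_le_left : P ≤ (S : Subgroup G))).toEquiv]
    exact ((P.subgroupOf (S : Subgroup G)).card_mul_index).symm
  rw [show Nat.card (S' : Subgroup G) = Nat.card (S : Subgroup G) from
    (S'.card_eq_multiplicity).trans S.card_eq_multiplicity.symm, hS, mul_comm r (r * tau G r m)]
  exact Nat.mul_le_mul hP hidx

/-- The shape of `S ⊓ Bsub u`. -/
theorem Hyp'.P_facts (h : Hyp' r N m) {S : Sylow r G} {u : G} (hu : u ∈ (S : Subgroup G))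
    (hnu : ¬ Cen S u) {t : G} (htS : t ∈ (S : Subgroup G)) (ht : Cen S t) (ht' : t ∉ center G) :
    (S : Subgroup G) ⊓ Bsub u = Tx r u ⊔ Tx r t ∧
      Nat.card ↥((S : Subgroup G) ⊓ Bsub u) = r * tau G r m ∧
      Nat.card (S : Subgroup G) = r * (r * tau G r m) ∧
      (∀ p ∈ (S : Subgroup G) ⊓ Bsub u, ∀ q ∈ (S : Subgroup G) ⊓ Bsub u, ⁅p, q⁆ ∈ center G) := by
  have hu' : u ∉ center G := fun hc => hnu (fun a _ => comm_swap.mp (center_le_Bsub a hc))
  set P := (S : Subgroup G) ⊓ Bsub u with hPdef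
  have hge := h.card_mul_tau_le (nr_of_mem hu hu') (nr_of_mem htS ht')
    (h.not_mem_Tx hu hnu htS ht ht') (S.isPGroup'.to_le (sup_le (Tx_le_sylow hu) (Tx_le_sylow htS)))
    le_sup_left le_sup_right
  have hle := h.Tx_sup_le_P hu htS ht
  have hPlt : P < (S : Subgroup G) := lt_of_le_of_ne inf_le_left fun e => hnu fun a ha =>
    mem_Bsub.mp (mem_inf.mp (e.symm ▸ ha : a ∈ P)).2
  have h1 := mul_card_le S.isPGroup' hPlt
  have h2 := h.card_sylow_le ⟨S, u, hu, hnu⟩ S
  have h3 := Subgroup.card_le_of_le hle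
  have hP : Nat.card P = r * tau G r m :=
    le_antisymm (Nat.le_of_mul_le_mul_left (h1.trans h2) (Fact.out : r.Prime).pos) (hge.trans h3)
  have hPeq : P = Tx r u ⊔ Tx r t := (eq_of_le_of_card_ge hle (hP.trans_le hge)).symm
  refine ⟨hPeq, hP, le_antisymm h2 (hP ▸ h1), ?_⟩
  have hW : P ≤ CenSet P := by
    conv_lhs => rw [hPeq]
    exact sup_le (Tx_le_CenSet (mem_CenSet.mpr fun a ha => mem_Bsub.mp (mem_inf.mp ha).2))
      (Tx_le_CenSet (mem_CenSet.mpr fun a ha => ht a (mem_inf.mp ha).1))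
  exact fun p hp q hq => mem_CenSet.mp (hW hq) p hp

/-- The centralizer modulo the center of a pure `t` has a unique Sylow subgroup. -/
theorem Hyp'.eq_of_le_Bsub (h : Hyp' r N m) {t : G} (ht : NR r t) (hpure : ¬ Mixed r N t)
    {S S' : Sylow r G} (hS : (S : Subgroup G) ≤ Bsub t) (hS' : (S' : Subgroup G) ≤ Bsub t) :
    S = S' := by
  set B := N ⊓ Bsub t with hBdef
  haveI : Group.IsNilpotent B := by
    refine Group.of_quotient_center_nilpotent ?_
    refine IsPGroup.isNilpotent (p := r) ?_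
    intro q
    obtain ⟨g, rfl⟩ := QuotientGroup.mk_surjective q
    obtain ⟨a, b, hab, ha, hb, har, hbr⟩ := exists_parts' (r := r) (g : G)
    obtain ⟨k, hk⟩ := har
    refine ⟨k, ?_⟩
    rw [← QuotientGroup.mk_pow, QuotientGroup.eq_one_iff]
    have hbB : ⁅b, t⁆ ∈ center G := (mem_inf.mp (zpowers_le.mpr g.2 hb)).2
    have hbC : b ∈ centralizer ({t} : Set G) := by
      refine PTools69.mem_of_pow_mem (n := r)
        ((Fact.out : r.Prime).coprime_iff_not_dvd.mpr hbr) ?_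
      refine mem_Cx.mpr (commutatorElement_eq_one_iff_mul_comm.mp ?_)
      rw [comm_pow_left hbB, ← comm_pow_right hbB, commutatorElement_eq_one_iff_mul_comm]
      exact mem_center_iff.mp (h.pow_r ht.1) b
    have hbN : b ∈ N := (mem_inf.mp (zpowers_le.mpr g.2 hb)).1
    have hbc : b ∈ center G := by
      by_contra hb'
      exact hpure ⟨ht.1, ht.2, b, hbN, hb', hbr, hbC⟩
    have hgk : (g : G) ^ r ^ k = b ^ r ^ k := by
      rw [hab, (show Commute a b from (mem_center_iff.mp hbc a)).mul_pow, hk, one_mul]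
    rw [mem_center_iff]
    intro y
    apply Subtype.ext
    show (y : G) * (g : G) ^ r ^ k = (g : G) ^ r ^ k * (y : G)
    rw [hgk]
    exact mem_center_iff.mp (pow_mem hbc _) y
  have hSB : (S : Subgroup G) ≤ B := le_inf (h.sylow_le S) hS
  have hS'B : (S' : Subgroup G) ≤ B := le_inf (h.sylow_le S') hS'
  haveI : Subsingleton (Sylow r B) :=
    (Sylow.unique_of_normal (S.subtype hSB)
      ((S.subtype hSB).normal_of_normalizerCondition normalizerCondition_of_isNilpotent)).instSubsingleton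
  exact Sylow.subtype_injective (Subsingleton.elim (S.subtype hSB) (S'.subtype hS'B))

omit [Finite G] [Fact r.Prime] in
theorem exists_pow_of_conj {H : Type*} [Group H] {a b h : H} (hha : h * a * h⁻¹ = a) {c : H}
    (hc : h * b * h⁻¹ = c * b) (hca : c ∈ zpowers a) : ∀ j : ℕ,
    h ^ j * b * (h ^ j)⁻¹ = c ^ j * b
  | 0 => by simp
  | j + 1 => by
    have hhc : h * c * h⁻¹ = c := by
      obtain ⟨i, rfl⟩ := mem_zpowers_iff.mp hca
      rw [← conj_zpow, hha]
    rw [pow_succ' h, show h * h ^ j * b * (h * h ^ j)⁻¹ = h * (h ^ j * b * (h ^ j)⁻¹) * h⁻¹ by group,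
      exists_pow_of_conj hha hc hca j,
      show h * (c ^ j * b) * h⁻¹ = (h * c ^ j * h⁻¹) * (h * b * h⁻¹) by group, ← conj_pow, hhc, hc,
      ← mul_assoc, ← pow_succ]

/-- A Sylow subgroup is the only one containing its subgroup `S ⊓ Bsub u`. -/
theorem Hyp'.uniq (h : Hyp' r N m)
    (he : ∀ S : Sylow r G, N ⊓ normalizer ((S : Subgroup G) : Set G) ≤ (S : Subgroup G) ⊔ (N ⊓ center G))
    {S : Sylow r G} {u : G} (hu : u ∈ (S : Subgroup G)) (hnu : ¬ Cen S u)
    {S' : Sylow r G} (hle : (S : Subgroup G) ⊓ Bsub u ≤ (S' : Subgroup G)) : S' = S := by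
  obtain ⟨t, htS, ht', ht⟩ := h.exists_t S
  obtain ⟨hPeq, hPc, hSc, hPab⟩ := h.P_facts hu hnu htS ht ht'
  set P := (S : Subgroup G) ⊓ Bsub u with hPdef
  have hn : ∃ (S : Sylow r G) (u : G), u ∈ (S : Subgroup G) ∧ ¬ Cen S u := ⟨S, u, hu, hnu⟩
  have htP : t ∈ P := hPeq ▸ mem_sup_right (mem_Tx_self r t)
  have hu' : u ∉ center G := fun hc => hnu (fun a _ => comm_swap.mp (center_le_Bsub a hc))
  have hpure : ¬ Mixed r N t := h.not_mixed_of_cen hn htS ht
  have hSc' : Nat.card (S' : Subgroup G) = r * (r * tau G r m) :=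
    hSc ▸ (S'.card_eq_multiplicity).trans S.card_eq_multiplicity.symm
  -- `P` is normal in `S'`
  have hnorm : ∀ a ∈ (S' : Subgroup G), ∀ p ∈ P, a * p * a⁻¹ ∈ P := by
    haveI := S'.isPGroup'.isNilpotent
    have hne : P.subgroupOf (S' : Subgroup G) ≠ ⊤ := by
      intro htop
      rw [subgroupOf_eq_top] at htop
      have h1 := Subgroup.card_le_of_le htop
      rw [hSc', hPc] at h1
      have h2 : 0 < r * tau G r m := Nat.mul_pos (Fact.out : r.Prime).pos (pow_pos (Fact.out : r.Prime).pos _)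
      have := Nat.mul_le_mul_right (r * tau G r m) (Fact.out : r.Prime).two_le
      omega
    set Np := normalizer ((P.subgroupOf (S' : Subgroup G)) : Set (S' : Subgroup G))
    have hlt := normalizerCondition_of_isNilpotent (G := ↥(S' : Subgroup G)) _ (lt_top_iff_ne_top.mpr hne)
    have htop : Np = ⊤ := by
      refine eq_of_le_of_card_ge le_top ?_
      rw [card_top, hSc', ← hPc, ← Nat.card_congr (subgroupOfEquivOfLe hle).toEquiv]
      exact mul_card_le (S'.isPGroup'.to_subgroup Np) hlt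
    intro a ha p hp
    have h1 : (⟨a, ha⟩ : ↥(S' : Subgroup G)) ∈ Np := htop ▸ mem_top _
    exact mem_subgroupOf.mp ((mem_normalizer_iff.mp h1 ⟨p, hle hp⟩).mp (mem_subgroupOf.mpr hp))
  obtain ⟨v, hvP, hv', -, hv⟩ := exists_cen S' P hle hnorm ⟨t, htP, ht'⟩
  have hfinish : Cen S' t → S' = S := fun hc =>
    h.eq_of_le_Bsub (nr_of_mem htS ht') hpure (fun a ha => mem_Bsub.mpr (hc a ha))
      (fun a ha => mem_Bsub.mpr (ht a ha))
  by_cases hvt : v ∈ Tx r t
  · refine hfinish (cen_iff.mpr (Tx_le_CenSet (r := r) (cen_iff.mp hv) ?_))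
    rw [h.Tx_eq (nr_of_mem htS ht') (nr_of_mem (hle hvP) hv') (Tx_le_Cx r t hvt)]
    exact mem_Tx_self r t
  by_cases hvS : Cen S v
  · exfalso
    apply hnu
    have h1 := h.card_mul_tau_le (nr_of_mem htS ht') (nr_of_mem (hle hvP) hv') hvt
      (S.isPGroup'.to_le (sup_le (Tx_le_sylow htS) (Tx_le_sylow (mem_inf.mp hvP).1)))
      le_sup_left le_sup_right
    have h2 : Tx r t ⊔ Tx r v ≤ P :=
      sup_le (Tx_le htP (le_inf (Zr_le_sylow S) ((Zr_le_center r).trans (center_le_Bsub u))))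
        (Tx_le hvP (le_inf (Zr_le_sylow S) ((Zr_le_center r).trans (center_le_Bsub u))))
    have h3 : Tx r t ⊔ Tx r v = P := eq_of_le_of_card_ge h2 (hPc.trans_le h1)
    have huP : u ∈ P := hPeq ▸ mem_sup_left (mem_Tx_self r u)
    rw [← h3] at huP
    exact cen_iff.mpr (sup_le (Tx_le_CenSet (cen_iff.mp ht)) (Tx_le_CenSet (cen_iff.mp hvS)) huP)
  by_cases htS' : Cen S' t
  · exact hfinish htS'
  exfalso
  rw [cen_iff, mem_CenSet] at hvS htS'
  push Not at hvS htS'
  obtain ⟨g, hg, hgv⟩ := hvS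
  obtain ⟨g', hg', hg't⟩ := htS'
  have hvS0 : v ∈ (S : Subgroup G) := (mem_inf.mp hvP).1
  let π := QuotientGroup.mk' (center G)
  have hπ : ∀ x y : G, ⁅x, y⁆ ∈ center G → π x * π y = π y * π x := by
    intro x y hxy
    rw [← commutatorElement_eq_one_iff_mul_comm, ← map_commutatorElement]
    exact (QuotientGroup.eq_one_iff _).mpr hxy
  have hgen : ∀ x : G, ∀ c ∈ Tx r x, π c ∈ zpowers (π x) := by
    intro x c hc
    refine (Tx_le (H := (zpowers (π x)).comap π) (mem_zpowers _) ?_) hc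
    intro z hz
    show π z ∈ zpowers (π x)
    rw [show π z = 1 from (QuotientGroup.eq_one_iff z).mpr hz.1]
    exact one_mem _
  have hroot : ∀ x c : G, RElem r x → π c ∈ zpowers (π x) → c ∉ center G → ∀ y ∈ zpowers (π x),
      ∃ j : ℕ, π c ^ j = y := by
    intro x c hx hc hc' y hy
    have hor : orderOf (π x) ∣ r := orderOf_dvd_of_pow_eq_one (by
      rw [← map_pow]; exact (QuotientGroup.eq_one_iff _).mpr (h.pow_r hx))
    have hne : π c ≠ 1 := fun e => hc' ((QuotientGroup.eq_one_iff c).mp e)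
    have hle' : zpowers (π c) ≤ zpowers (π x) := zpowers_le.mpr hc
    have hcard : zpowers (π c) = zpowers (π x) := by
      refine eq_of_le_of_card_ge hle' ?_
      rw [Nat.card_zpowers, Nat.card_zpowers]
      have h1 : orderOf (π c) ∣ r := by
        rw [← Nat.card_zpowers]; exact (card_dvd_of_le hle').trans (by rw [Nat.card_zpowers]; exact hor)
      rcases (Nat.dvd_prime Fact.out).mp h1 with h2 | h2
      · exact absurd (orderOf_eq_one_iff.mp h2) hne
      · rw [h2]; exact Nat.le_of_dvd (Fact.out : r.Prime).pos hor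
    rw [← hcard, ← mem_powers_iff_mem_zpowers] at hy
    obtain ⟨j, hj⟩ := hy
    exact ⟨j, hj⟩
  have hc1 : ⁅g, v⁆ ∈ Tx r t := h.comm_mem_Tx htS ht ht' hg hvS0
  have hc2 : ⁅g', t⁆ ∈ Tx r v := h.comm_mem_Tx (hle hvP) hv hv' hg' (hle htP)
  have hra : RElem r t := RElem.of_mem S.isPGroup' htS
  have hrb : RElem r v := RElem.of_mem S.isPGroup' hvS0
  obtain ⟨j, hj⟩ := hroot t _ hra (hgen t _ hc1) hgv (π t) (mem_zpowers _)
  obtain ⟨k, hk⟩ := hroot v _ hrb (hgen v _ hc2) hg't (π v)⁻¹ (inv_mem (mem_zpowers _))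
  have hab : π t * π v = π v * π t := hπ t v (hPab t htP v hvP)
  have hga : π g * π t * (π g)⁻¹ = π t := by rw [hπ g t (ht g hg), mul_inv_cancel_right]
  have hg'b : π g' * π v * (π g')⁻¹ = π v := by rw [hπ g' v (hv g' hg'), mul_inv_cancel_right]
  have hs := exists_pow_of_conj hga (show π g * π v * (π g)⁻¹ = π ⁅g, v⁆ * π v by
    simp only [commutatorElement_def, map_mul, map_inv]; group) (hgen t _ hc1) j
  have hτ := exists_pow_of_conj hg'b (show π g' * π t * (π g')⁻¹ = π ⁅g', t⁆ * π t by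
    simp only [commutatorElement_def, map_mul, map_inv]; group) (hgen v _ hc2) k
  rw [hj] at hs
  rw [hk] at hτ
  have hsa : π g ^ j * π t * (π g ^ j)⁻¹ = π t := by
    have hcm : Commute (π g) (π t) := hπ g t (ht g hg)
    rw [(hcm.pow_left j).eq, mul_inv_cancel_right]
  have hτb : π g' ^ k * π v * (π g' ^ k)⁻¹ = π v := by
    have hcm : Commute (π g') (π v) := hπ g' v (hv g' hg')
    rw [(hcm.pow_left k).eq, mul_inv_cancel_right]
  set s := π g ^ j
  set σ := π g' ^ k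
  set a := π t
  set b := π v
  set w := s * σ * s with hw
  have hwa : w * a * w⁻¹ = b⁻¹ := by
    calc w * a * w⁻¹ = s * (σ * (s * a * s⁻¹) * σ⁻¹) * s⁻¹ := by rw [hw]; group
      _ = (s * b * s⁻¹)⁻¹ * (s * a * s⁻¹) := by conv_lhs => rw [hsa, hτ]
                                                group
      _ = b⁻¹ := by rw [hs, hsa]; group
  have hwb : w * b * w⁻¹ = a := by
    calc w * b * w⁻¹ = s * (σ * (s * b * s⁻¹) * σ⁻¹) * s⁻¹ := by rw [hw]; group
      _ = s * ((σ * a * σ⁻¹) * (σ * b * σ⁻¹)) * s⁻¹ := by rw [hs]; group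
      _ = s * a * s⁻¹ := by rw [hτ, hτb, mul_assoc b⁻¹ a b, hab]; group
      _ = a := hsa
  have hw2 : w * w * a * (w * w)⁻¹ = a⁻¹ := by
    calc w * w * a * (w * w)⁻¹ = w * (w * a * w⁻¹) * w⁻¹ := by group
      _ = (w * b * w⁻¹)⁻¹ := by rw [hwa]; group
      _ = a⁻¹ := by rw [hwb]
  set W := (g ^ j * g' ^ k * g ^ j) * (g ^ j * g' ^ k * g ^ j) with hWdef
  have hWπ : π W = w * w := by simp [W, w, s, σ, π]
  have hWt : π (W * t * W⁻¹) = (π t)⁻¹ := by rw [map_mul, map_mul, map_inv, hWπ]; exact hw2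
  have hWN : W ∈ N := by
    have hgN := h.sylow_le S hg
    have hgN' := h.sylow_le S' hg'
    exact mul_mem (mul_mem (mul_mem (pow_mem hgN j) (pow_mem hgN' k)) (pow_mem hgN j))
      (mul_mem (mul_mem (pow_mem hgN j) (pow_mem hgN' k)) (pow_mem hgN j))
  obtain ⟨z, hz, hzt⟩ : ∃ z ∈ center G, W * t * W⁻¹ = t⁻¹ * z := by
    refine ⟨t * (W * t * W⁻¹), ?_, by group⟩
    rw [← QuotientGroup.eq_one_iff]
    show π (t * (W * t * W⁻¹)) = 1
    rw [map_mul, hWt, mul_inv_cancel]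
  -- `W` fixes `S`
  have hWS : W • S = S := by
    refine h.eq_of_le_Bsub (nr_of_mem htS ht') hpure ?_ (fun a ha => mem_Bsub.mpr (ht a ha))
    intro a ha
    rw [mem_smul_sylow] at ha
    have h1 := comm_conj_iff (g := W).mpr (ht _ ha)
    rw [show W * (W⁻¹ * a * W) * W⁻¹ = a by group, hzt] at h1
    have h2 : ⁅a, z⁆ ∈ center G := comm_swap.mp (center_le_Bsub a hz)
    rw [comm_mul_right_central h2] at h1
    have h3 : ⁅a, t⁻¹⁆ ∈ center G := by
      have := mul_mem h1 (inv_mem h2); rwa [mul_inv_cancel_right] at this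
    have h4 : ⁅a, t⁆ = ⁅a, t⁻¹⁆⁻¹ := by rw [← comm_inv_right_central h3, inv_inv]
    rw [mem_Bsub, h4]
    exact inv_mem h3
  have hWX := he S (mem_inf.mpr ⟨hWN, Sylow.smul_eq_iff_mem_normalizer.mp hWS⟩)
  have hXB : (S : Subgroup G) ⊔ (N ⊓ center G) ≤ Bsub t :=
    sup_le (fun a ha => mem_Bsub.mpr (ht a ha)) (inf_le_right.trans (center_le_Bsub t))
  have ha2 : a⁻¹ = a := by
    rw [← hw2, ← hWπ, hπ W t (mem_Bsub.mp (hXB hWX)), mul_inv_cancel_right]
  have hat : π (t ^ 2) = 1 := by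
    rw [map_pow, pow_two]
    show a * a = 1
    nth_rw 1 [← ha2]
    exact inv_mul_cancel a
  have ht2 : t ^ 2 ∈ center G := (QuotientGroup.eq_one_iff _).mp hat
  by_cases hr2 : r = 2
  · -- for `r = 2` commutators are products of squares
    apply hgv
    have hsq : ∀ x ∈ (S : Subgroup G), x * x ∈ center G := by
      intro x hx
      have hp := h.pow_r (RElem.of_mem S.isPGroup' hx)
      subst hr2
      rwa [pow_two] at hp
    have hg2 := inv_mem (hsq g hg)
    have hv2 := inv_mem (hsq v hvS0)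
    have hgv2 := hsq (g * v) (mul_mem hg hvS0)
    have e1 : ⁅g, v⁆ = g * v * (g * (g * g)⁻¹) * (v * (v * v)⁻¹) := by
      simp only [commutatorElement_def]; group
    have e2 : g * v * (g * (g * g)⁻¹) * (v * (v * v)⁻¹) = (g * v) * (g * v) * ((g * g)⁻¹ * (v * v)⁻¹) := by
      calc g * v * (g * (g * g)⁻¹) * (v * (v * v)⁻¹) = g * v * g * ((g * g)⁻¹ * v) * (v * v)⁻¹ := by group
        _ = g * v * g * (v * (g * g)⁻¹) * (v * v)⁻¹ := by rw [(mem_center_iff.mp hg2 v).symm]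
        _ = _ := by group
    rw [e1, e2]
    exact mul_mem hgv2 (mul_mem hg2 hv2)
  · refine ht' (PTools69.mem_of_pow_mem (n := 2) ?_ ht2)
    obtain ⟨k', hk'⟩ := hra
    exact (((Nat.coprime_primes Nat.prime_two (Fact.out : r.Prime)).mpr (Ne.symm hr2)).pow_right k').coprime_dvd_right
      (orderOf_dvd_of_pow_eq_one hk')

end CfsgLib.TwoSizes69
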