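import Cfsg.Agent.TwoSizes69.Lines

/-!
# Counting lines: the configuration `Hyp'` does not exist

Each non-central element of `N` lies on exactly one line. Counting elements against incidences of
lines and Sylow subgroups shows that `N_N(S) = S (N ∩ Z)` and that a single line is mixed; the
centralizer of an element off this line is then too small.
-/

set_option autoImplicit false

namespace CfsgLib.TwoSizes69

open Subgroup
open scoped commutatorElement Classical

variable {G : Type*} [Group G] [Finite G] {r : ℕ} [Fact r.Prime] {N : Subgroup G} {m : ℕ}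

/-- A line. -/
def IsLine (r : ℕ) (T : Subgroup G) : Prop := ∃ x : G, NR r x ∧ T = Tx r x

/-- The number of classes of `N ⊓ C(T)` modulo `T (N ⊓ Z)`. -/
noncomputable def kLine (N T : Subgroup G) : ℕ :=
  (T ⊔ (N ⊓ center G)).relIndex (N ⊓ centralizer (T : Set G))

theorem centralizer_Tx (r : ℕ) (x : G) : centralizer (Tx r x : Set G) = centralizer ({x} : Set G) :=
  le_antisymm (centralizer_le (Set.singleton_subset_iff.mpr (mem_Tx_self r x))) (Cx_le_centralizer_Tx r x)

instance Z_N_normal [hN : N.Normal] : (N ⊓ center G).Normal := inferInstance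

theorem inf_center_eq_Zr {U : Subgroup G} (hU : IsPGroup r U) (hZ : Zr r G ≤ U) :
    U ⊓ center G = Zr r G :=
  le_antisymm (fun u hu => ⟨(mem_inf.mp hu).2, RElem.of_mem hU (mem_inf.mp hu).1⟩)
    (le_inf hZ (Zr_le_center r))

theorem Hyp.card_sup_center (h : Hyp r N m) {U : Subgroup G} (hU : IsPGroup r U) (hZ : Zr r G ≤ U)
    (hUN : U ≤ N) :
    Nat.card ↥(U ⊔ (N ⊓ center G)) * Nat.card (Zr r G) = Nat.card U * Nat.card ↥(N ⊓ center G) := by
  haveI := h.normal
  have e1 : Nat.card ↥(U ⊔ (N ⊓ center G)) = Nat.card ↥(N ⊓ center G) * (N ⊓ center G).relIndex U := by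
    rw [← relIndex_sup_right (H := U) (K := N ⊓ center G),
      ← Nat.card_congr (subgroupOfEquivOfLe (le_sup_right : N ⊓ center G ≤ U ⊔ (N ⊓ center G))).toEquiv]
    exact (((N ⊓ center G).subgroupOf (U ⊔ (N ⊓ center G))).card_mul_index).symm
  have e2 : Nat.card U = Nat.card (Zr r G) * (N ⊓ center G).relIndex U := by
    rw [← inf_relIndex_right, show (N ⊓ center G) ⊓ U = Zr r G by
      rw [inf_comm, ← inf_assoc, inf_eq_left.mpr hUN, inf_center_eq_Zr hU hZ],
      ← Nat.card_congr (subgroupOfEquivOfLe hZ).toEquiv]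
    exact (((Zr r G).subgroupOf U).card_mul_index).symm
  rw [e1, e2]; ring

theorem Hyp'.card_D (h : Hyp' r N m) {x : G} (hx : NR r x) :
    Nat.card ↥(N ⊓ centralizer ({x} : Set G)) = r * Nat.card ↥(N ⊓ center G) * kLine N (Tx r x) := by
  have hle : Tx r x ⊔ (N ⊓ center G) ≤ N ⊓ centralizer (Tx r x : Set G) := by
    rw [centralizer_Tx]
    exact sup_le (le_inf (Tx_le (h.mem_of_rElem hx.1) h.toHyp.Zr_le) (Tx_le_Cx r x))
      (le_inf inf_le_left (inf_le_right.trans (center_le_Cx x)))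
  have h1 := h.toHyp.card_sup_center (isPGroup_Tx hx.1) (Zr_le_Tx r x)
    (Tx_le (h.mem_of_rElem hx.1) h.toHyp.Zr_le)
  rw [h.card_Tx hx, h.toHyp.tau_eq h.mixed] at h1
  have hX : Nat.card ↥(Tx r x ⊔ (N ⊓ center G)) = r * Nat.card ↥(N ⊓ center G) :=
    Nat.eq_of_mul_eq_mul_right Nat.card_pos (h1.trans (by ring))
  rw [← centralizer_Tx r x, ← hX, kLine,
    ← Nat.card_congr (subgroupOfEquivOfLe hle).toEquiv]
  exact (((Tx r x ⊔ (N ⊓ center G)).subgroupOf _).card_mul_index).symm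

theorem card_diff [Fintype G] (H K : Subgroup G) :
    (Finset.univ.filter fun g : G => g ∈ H ∧ g ∉ K).card + Nat.card ↥(H ⊓ K) = Nat.card H := by
  rw [Nat.card_eq_fintype_card, Nat.card_eq_fintype_card, Fintype.card_subtype, Fintype.card_subtype,
    ← Finset.card_union_of_disjoint]
  · congr 1
    ext g
    simp only [Finset.mem_union, Finset.mem_filter, Finset.mem_univ, true_and, mem_inf]
    tauto
  · rw [Finset.disjoint_filter]
    intro g _ h1 h2
    exact h1.2 (mem_inf.mp h2).2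

/-- The lines in a Sylow subgroup. -/
theorem Hyp'.lines_sylow (h : Hyp' r N m) [Fintype G] [Fintype (Subgroup G)] (S : Sylow r G) :
    ((Finset.univ.filter (IsLine (G := G) r)).filter (fun T => T ≤ (S : Subgroup G))).card *
        ((r - 1) * Nat.card (Zr r G)) + Nat.card (Zr r G) = Nat.card (S : Subgroup G) := by
  have h1 := card_diff (S : Subgroup G) (center G)
  rw [inf_center_eq_Zr S.isPGroup' (Zr_le_sylow S)] at h1
  rw [← h1, Nat.add_right_cancel_iff]
  rw [Finset.card_eq_sum_card_fiberwise (f := fun g => Tx r g)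
    (t := (Finset.univ.filter (IsLine (G := G) r)).filter (fun T => T ≤ (S : Subgroup G))) (fun g hg => by
      simp only [Finset.coe_filter, Finset.mem_univ, true_and, Set.mem_setOf_eq, Finset.mem_filter] at hg ⊢
      exact ⟨⟨g, nr_of_mem hg.1 hg.2, rfl⟩, Tx_le_sylow hg.1⟩),
    Finset.sum_congr rfl (g := fun _ => (r - 1) * Nat.card (Zr r G)), Finset.sum_const, smul_eq_mul]
  intro T hT
  simp only [Finset.mem_filter, Finset.mem_univ, true_and] at hT
  obtain ⟨⟨x, hx, rfl⟩, hTS⟩ := hT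
  have h2 := card_diff (Tx r x) (center G)
  rw [inf_center_eq_Zr (isPGroup_Tx hx.1) (Zr_le_Tx r x), h.card_Tx hx, h.toHyp.tau_eq h.mixed] at h2
  rw [Nat.sub_mul, one_mul, ← h2, Nat.add_sub_cancel]
  congr 1
  ext g
  simp only [Finset.mem_filter, Finset.mem_univ, true_and]
  constructor
  · rintro ⟨⟨-, hg⟩, e⟩
    exact ⟨e ▸ mem_Tx_self r g, hg⟩
  · rintro ⟨hg, hg'⟩
    exact ⟨⟨hTS hg, hg'⟩, h.Tx_eq hx ⟨RElem.of_mem (isPGroup_Tx hx.1) hg, hg'⟩ (Tx_le_Cx r x hg)⟩

/-- Partition of `N` into lines. -/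
theorem Hyp'.card_N (h : Hyp' r N m) [Fintype G] [Fintype (Subgroup G)] :
    Nat.card N + (Finset.univ.filter (IsLine (G := G) r)).card * Nat.card ↥(N ⊓ center G) =
      Nat.card ↥(N ⊓ center G) *
        (1 + r * ∑ T ∈ Finset.univ.filter (IsLine (G := G) r), kLine N T) := by
  choose f hf1 hf2 hf3 using fun (g : G) (hg : g ∈ N ∧ g ∉ center G) => h.toHyp.exists_rep hg.1 hg.2
  let F : G → Subgroup G := fun g => if hg : g ∈ N ∧ g ∉ center G then Tx r (f g hg) else ⊥
  set L := Finset.univ.filter (IsLine (G := G) r)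
  set z := Nat.card ↥(N ⊓ center G)
  have h1 := card_diff N (center G)
  have h2 : (Finset.univ.filter fun g : G => g ∈ N ∧ g ∉ center G).card + L.card * z =
      r * z * ∑ T ∈ L, kLine N T := by
    rw [Finset.card_eq_sum_card_fiberwise (f := F) (t := L) (fun g hg => by
      simp only [Finset.coe_filter, Finset.mem_univ, true_and, Set.mem_setOf_eq] at hg
      simp only [L, Finset.coe_filter, Finset.mem_univ, true_and, Set.mem_setOf_eq, F, dif_pos hg]
      exact ⟨f g hg, ⟨hf1 g hg, hf2 g hg⟩, rfl⟩), Finset.card_eq_sum_ones L, Finset.sum_mul,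
      ← Finset.sum_add_distrib, Finset.mul_sum]
    refine Finset.sum_congr rfl fun T hT => ?_
    simp only [L, Finset.mem_filter, Finset.mem_univ, true_and] at hT
    obtain ⟨x, hx, rfl⟩ := hT
    rw [← h.card_D hx, one_mul, ← card_diff (N ⊓ centralizer ({x} : Set G)) (center G)]
    congr 1
    · congr 1
      ext g
      simp only [Finset.mem_filter, Finset.mem_univ, true_and, mem_inf]
      constructor
      · rintro ⟨hg, e⟩
        simp only [F, dif_pos hg] at e
        refine ⟨⟨hg.1, ?_⟩, hg.2⟩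
        have e' : centralizer ({f g hg} : Set G) = centralizer ({x} : Set G) := by
          rw [← centralizer_Tx r, e, centralizer_Tx]
        rw [← e', ← hf3 g hg]
        exact mem_Cx.mpr rfl
      · rintro ⟨⟨hgN, hgx⟩, hg'⟩
        refine ⟨⟨hgN, hg'⟩, ?_⟩
        simp only [F, dif_pos (And.intro hgN hg')]
        refine h.Tx_eq hx ⟨hf1 g ⟨hgN, hg'⟩, hf2 g ⟨hgN, hg'⟩⟩ ?_
        rw [← h.eq_of_mem hx hgN hg' hgx, hf3 g ⟨hgN, hg'⟩]
        exact mem_Cx.mpr rfl
    · refine congrArg (fun H : Subgroup G => Nat.card H) ?_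
      rw [inf_assoc, inf_eq_right.mpr (center_le_Cx x)]
  have e1 : (Finset.univ.filter fun g : G => g ∈ N ∧ g ∉ center G).card + z = Nat.card N := by convert h1
  rw [Nat.mul_add, mul_one, ← mul_assoc, mul_comm z r]
  omega

theorem Hyp'.normalize_mem (h : Hyp' r N m) {S : Sylow r G} {x d : G} (hxS : x ∈ (S : Subgroup G))
    (hx : x ∉ center G) (hd : d ∈ N) (hdx : d ∈ centralizer ({x} : Set G))
    (hdS : d ∈ normalizer ((S : Subgroup G) : Set G)) : d ∈ Tx r x ⊔ (N ⊓ center G) := by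
  have hxn := nr_of_mem hxS hx
  obtain ⟨a, b, hab, ha, hb, har, hbr⟩ := exists_parts' (r := r) d
  rw [hab]
  refine mul_mem_sup (h.mem_Tx hxn har (zpowers_le.mpr hdx ha)) (mem_inf.mpr ⟨zpowers_le.mpr hd hb, ?_⟩)
  have hbS : b ∈ normalizer ((S : Subgroup G) : Set G) := zpowers_le.mpr hdS hb
  have hbN := zpowers_le.mpr hd hb
  have hbx : b ∈ centralizer ({x} : Set G) := zpowers_le.mpr hdx hb
  by_contra hb'
  haveI := S.isPGroup'.isNilpotent
  set U := (Tx r x).subgroupOf (S : Subgroup G)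
  have hU : U ≠ ⊤ := fun htop =>
    h.toHyp.not_cen_sylow S (h.sylow_le S hxS) hx ((subgroupOf_eq_top.mp htop).trans (Tx_le_Cx r x))
  obtain ⟨g, hg, hgU⟩ := SetLike.exists_of_lt
    (normalizerCondition_of_isNilpotent (G := ↥(S : Subgroup G)) U (lt_top_iff_ne_top.mpr hU))
  have hgx : (g : G) * x * (g : G)⁻¹ ∈ Tx r x :=
    mem_subgroupOf.mp ((mem_normalizer_iff.mp hg ⟨x, hxS⟩).mp (mem_subgroupOf.mpr (mem_Tx_self r x)))
  have hgC : (g : G) ∈ normalizer (centralizer ({x} : Set G) : Set G) :=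
    mem_normalizer_Cx (h.eq_of_mem hxn (h.normal.conj_mem x (h.sylow_le S hxS) g) (nr_conj hxn g).2
      (Tx_le_Cx r x hgx))
  apply hgU
  refine mem_subgroupOf.mpr (h.mem_Tx hxn (RElem.of_mem S.isPGroup' g.2) ?_)
  rw [← h.eq_of_mem hxn hbN hb' hbx]
  refine mem_Cx.mpr (commutatorElement_eq_one_iff_mul_comm.mp ?_)
  have h1 : ⁅b, (g : G)⁆ ∈ (S : Subgroup G) :=
    mul_mem ((mem_normalizer_iff.mp hbS g).mp g.2) (inv_mem g.2)
  have hcm : Commute b ((g : G) * b⁻¹ * (g : G)⁻¹) :=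
    h.D_comm hxn (h.normal.conj_mem _ (inv_mem hbN) g)
      ((mem_normalizer_iff.mp hgC _).mp (inv_mem hbx)) hbx
  have hr' : ¬ r ∣ orderOf ((g : G) * b⁻¹ * (g : G)⁻¹) := by
    rw [← MulAut.conj_apply, ← MulEquiv.coe_toMonoidHom, orderOf_injective _ (MulAut.conj (g : G)).injective,
      orderOf_inv]
    exact hbr
  have h2 : ¬ r ∣ orderOf ⁅b, (g : G)⁆ := by
    rw [show ⁅b, (g : G)⁆ = b * ((g : G) * b⁻¹ * (g : G)⁻¹) by
      simp only [commutatorElement_def, mul_assoc]]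
    exact fun hdv => ((Fact.out : r.Prime).dvd_mul.mp (hdv.trans hcm.orderOf_mul_dvd_mul_orderOf)).elim hbr hr'
  have h3 : ⁅b, (g : G)⁆ = 1 := (RElem.of_mem S.isPGroup' h1).eq_one h2
  rw [← commutatorElement_inv, h3, inv_one]

theorem Hyp'.kLine_le (h : Hyp' r N m) [Fintype (Sylow r G)] {T : Subgroup G} (hT : IsLine r T) :
    kLine N T ≤ (Finset.univ.filter fun S : Sylow r G => T ≤ (S : Subgroup G)).card := by
  obtain ⟨x, hx, rfl⟩ := hT
  obtain ⟨S, hS⟩ := (isPGroup_Tx hx.1).exists_le_sylow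
  set D := N ⊓ centralizer (Tx r x : Set G)
  set X := Tx r x ⊔ (N ⊓ center G)
  have hmem : ∀ d : D, ((d : G) • S) ∈ Finset.univ.filter fun S' : Sylow r G => Tx r x ≤ (S' : Subgroup G) := by
    intro d
    refine Finset.mem_filter.mpr ⟨Finset.mem_univ _, fun u hu => ?_⟩
    rw [mem_smul_sylow, mul_assoc, mem_centralizer_iff.mp (mem_inf.mp d.2).2 u hu, inv_mul_cancel_left]
    exact hS hu
  rw [← Fintype.card_coe, ← Nat.card_eq_fintype_card]
  refine Nat.card_le_card_of_injective (fun q : D ⧸ X.subgroupOf D => ⟨_, hmem q.out⟩) fun q q' e => ?_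
  simp only [Subtype.mk.injEq] at e
  have hd : (q.out : G)⁻¹ * q'.out ∈ D := mul_mem (inv_mem q.out.2) q'.out.2
  have hn : (q.out : G)⁻¹ * q'.out ∈ normalizer ((S : Subgroup G) : Set G) :=
    Sylow.smul_eq_iff_mem_normalizer.mp (by rw [mul_smul, ← e, inv_smul_smul])
  have hd2 := mem_inf.mp hd
  have := h.normalize_mem (hS (mem_Tx_self r x)) hx.2 hd2.1 ((centralizer_Tx r x).le hd2.2) hn
  have h3 : ((q.out : D) : D ⧸ X.subgroupOf D) = (q'.out : D ⧸ X.subgroupOf D) :=
    QuotientGroup.eq.mpr (by simpa [mem_subgroupOf] using this)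
  simpa using h3

theorem smul_eq_of_conj {S S' : Sylow r G} {b : G}
    (hb : ∀ v ∈ (S' : Subgroup G), b * v * b⁻¹ ∈ (S : Subgroup G)) : b • S' = S := by
  refine Sylow.ext (eq_of_le_of_card_ge (fun u hu => ?_) ?_)
  · rw [mem_smul_sylow] at hu
    have := hb _ hu
    rwa [show b * (b⁻¹ * u * b) * b⁻¹ = u by group] at this
  · exact (S.card_eq_multiplicity.trans (b • S').card_eq_multiplicity.symm).le

/-- Decomposition of `N ⊓ Bsub x` along a subgroup containing conjugates of its `r`-elements. -/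
theorem Hyp'.B_decomp (h : Hyp' r N m) {x : G} (hx : NR r x) {P : Subgroup G}
    (hPB : P ≤ N ⊓ Bsub x)
    (hconj : ∀ V : Subgroup G, IsPGroup r V → V ≤ N ⊓ Bsub x → ∃ b ∈ N ⊓ Bsub x, ∀ v ∈ V, b * v * b⁻¹ ∈ P)
    {b : G} (hb : b ∈ N ⊓ Bsub x) : ∃ p ∈ P, p⁻¹ * b ∈ N ⊓ centralizer ({x} : Set G) := by
  obtain ⟨a, c, hac, ha, hc, har, hcr⟩ := exists_parts' (r := r) b
  have haB := zpowers_le.mpr hb ha
  have hcB := zpowers_le.mpr hb hc
  have hc1 : ⁅c, x⁆ = 1 := by
    have hcC : c ∈ centralizer ({x} : Set G) := by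
      refine PTools69.mem_of_pow_mem (n := r) ((Fact.out : r.Prime).coprime_iff_not_dvd.mpr hcr) ?_
      refine mem_Cx.mpr (commutatorElement_eq_one_iff_mul_comm.mp ?_)
      have hcc : ⁅c, x⁆ ∈ center G := (mem_inf.mp hcB).2
      rw [comm_pow_left hcc, ← comm_pow_right hcc, commutatorElement_eq_one_iff_mul_comm]
      exact mem_center_iff.mp (h.pow_r hx.1) c
    exact commutatorElement_eq_one_iff_mul_comm.mpr (mem_Cx.mp hcC)
  obtain ⟨β, hβ, hβV⟩ := hconj (zpowers a) (isPGroup_zpowers har) (zpowers_le.mpr haB)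
  set p := β * a * β⁻¹
  have hp : p ∈ P := hβV a (mem_zpowers a)
  refine ⟨p, hp, mem_inf.mpr ⟨mul_mem (inv_mem (mem_inf.mp (hPB hp)).1) (mem_inf.mp hb).1, ?_⟩⟩
  refine mem_Cx.mpr (commutatorElement_eq_one_iff_mul_comm.mp ?_)
  have hA : ⁅a, x⁆ ∈ center G := (mem_inf.mp haB).2
  have hβ' : ⁅β, x⁆ ∈ center G := (mem_inf.mp hβ).2
  have hβi : ⁅β⁻¹, x⁆ ∈ center G := comm_inv_left_central hβ' ▸ inv_mem hβ'
  have hb' : ⁅b, x⁆ = ⁅a, x⁆ := by rw [hac, comm_mul_left_central (by rw [hc1]; exact one_mem _), hc1, one_mul]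
  have hpx : ⁅p, x⁆ = ⁅a, x⁆ := by
    simp only [p]
    rw [comm_mul_left_central hβi, comm_mul_left_central hA, comm_inv_left_central hβ',
      mem_center_iff.mp hβ' ⁅a, x⁆, inv_mul_cancel_left]
  rw [comm_mul_left_central (mem_inf.mp hb).2, comm_inv_left_central (hpx ▸ hA), hb', hpx, mul_inv_cancel]

theorem Hyp'.conj_noncen (h : Hyp' r N m)
    (he : ∀ S : Sylow r G, N ⊓ normalizer ((S : Subgroup G) : Set G) ≤ (S : Subgroup G) ⊔ (N ⊓ center G))
    {S S' : Sylow r G} {x : G} (hxS : x ∈ (S : Subgroup G)) (hxS' : x ∈ (S' : Subgroup G))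
    (hx : ¬ Cen S x) :
    ∃ d ∈ N ⊓ centralizer ({x} : Set G), d • S' = S := by
  have hx' : x ∉ center G := fun hc => hx (fun a _ => comm_swap.mp (center_le_Bsub a hc))
  obtain ⟨t, htS, ht', ht⟩ := h.exists_t S
  set B := N ⊓ Bsub x with hBdef
  set P := (S : Subgroup G) ⊓ Bsub x with hPdef
  have hPB : P ≤ B := inf_le_inf_right _ (h.sylow_le S)
  have hconj : ∀ V : Subgroup G, IsPGroup r V → V ≤ B → ∃ b ∈ B, ∀ v ∈ V, b * v * b⁻¹ ∈ P := by
    intro V hV hVB
    obtain ⟨U, hU⟩ := ((S.isPGroup'.to_le (inf_le_left : P ≤ _)).comap_of_injective B.subtype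
      B.subtype_injective).exists_le_sylow
    obtain ⟨T, hT⟩ := (hV.comap_of_injective B.subtype B.subtype_injective).exists_le_sylow
    obtain ⟨b, hb⟩ := MulAction.exists_smul_eq B T U
    obtain ⟨S'', hS''⟩ := (U.isPGroup'.map B.subtype).exists_le_sylow
    have hPU : P ≤ (U : Subgroup B).map B.subtype := fun p hp => ⟨⟨p, hPB hp⟩, hU hp, rfl⟩
    have hS := h.uniq he hxS hx (hPU.trans hS'')
    refine ⟨b, b.2, fun v hv => ?_⟩
    have h1 : b * ⟨v, hVB hv⟩ * b⁻¹ ∈ ((b • T : Sylow r B) : Subgroup B) := by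
      rw [mem_smul_sylow, show b⁻¹ * (b * ⟨v, hVB hv⟩ * b⁻¹) * b = (⟨v, hVB hv⟩ : B) by group]
      exact hT hv
    rw [hb] at h1
    have h2 : ((b * ⟨v, hVB hv⟩ * b⁻¹ : B) : G) ∈ (S'' : Subgroup G) := hS'' ⟨_, h1, rfl⟩
    rw [hS] at h2
    exact mem_inf.mpr ⟨h2, (mem_inf.mp (b * ⟨v, hVB hv⟩ * b⁻¹ : B).2).2⟩
  set V := (S' : Subgroup G) ⊓ Bsub x with hVdef
  obtain ⟨b, hb, hbV⟩ := hconj V (S'.isPGroup'.to_le inf_le_left) (inf_le_inf_right _ (h.sylow_le S'))
  have hPc := (h.P_facts hxS hx htS ht ht').2.1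
  have hSc := (h.P_facts hxS hx htS ht ht').2.2.1
  have hVle : V.map (MulAut.conj b).toMonoidHom ≤ P := by
    rintro _ ⟨v, hv, rfl⟩; exact hbV v hv
  have hVcard : Nat.card V = r * tau G r m := by
    refine le_antisymm ?_ ?_
    · rw [← hPc, ← card_map_of_injective (f := (MulAut.conj b).toMonoidHom) (K := V) (MulAut.conj b).injective]
      exact Subgroup.card_le_of_le hVle
    · by_cases hS' : Cen S' x
      · have hS'V : V = (S' : Subgroup G) := inf_eq_left.mpr fun a ha => mem_Bsub.mpr (hS' a ha)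
        rw [hS'V, S'.card_eq_multiplicity, ← S.card_eq_multiplicity]
        rw [show Nat.card S = Nat.card (S : Subgroup G) from rfl, hSc]
        exact Nat.le_mul_of_pos_left _ (Fact.out : r.Prime).pos
      · obtain ⟨t', htS', ht1, ht2⟩ := h.exists_t S'
        exact (h.P_facts hxS' hS' htS' ht2 ht1).2.1.ge
  have hPeq : P ≤ ((b • S' : Sylow r G) : Subgroup G) := by
    have : V.map (MulAut.conj b).toMonoidHom = P := eq_of_le_of_card_ge hVle (by
      rw [card_map_of_injective (MulAut.conj b).injective, hVcard, hPc])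
    rw [← this]
    rintro _ ⟨v, hv, rfl⟩
    exact smul_mem (mem_inf.mp hv).1 b
  have hbS : b • S' = S := h.uniq he hxS hx hPeq
  obtain ⟨p, hp, hd⟩ := h.B_decomp (nr_of_mem hxS hx') hPB hconj hb
  refine ⟨_, hd, ?_⟩
  rw [mul_smul, hbS, Sylow.smul_eq_iff_mem_normalizer]
  exact inv_mem (le_normalizer (mem_inf.mp hp).1)

theorem Hyp'.conj_D (h : Hyp' r N m)
    (he : ∀ S : Sylow r G, N ⊓ normalizer ((S : Subgroup G) : Set G) ≤ (S : Subgroup G) ⊔ (N ⊓ center G))
    {S S' : Sylow r G} {x : G} (hxS : x ∈ (S : Subgroup G)) (hxS' : x ∈ (S' : Subgroup G))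
    (hx : x ∉ center G) :
    ∃ d ∈ N ⊓ centralizer ({x} : Set G), d • S' = S := by
  by_cases h1 : Cen S x
  · by_cases h2 : Cen S' x
    · have hSB : (S : Subgroup G) ≤ N ⊓ Bsub x := le_inf (h.sylow_le S) (fun a ha => mem_Bsub.mpr (h1 a ha))
      have hconj : ∀ V : Subgroup G, IsPGroup r V → V ≤ N ⊓ Bsub x →
          ∃ b ∈ N ⊓ Bsub x, ∀ v ∈ V, b * v * b⁻¹ ∈ (S : Subgroup G) := fun V hV hVB => conj_into hSB hV hVB
      obtain ⟨b, hb, hbS⟩ := hconj (S' : Subgroup G) S'.isPGroup'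
        (le_inf (h.sylow_le S') (fun a ha => mem_Bsub.mpr (h2 a ha)))
      obtain ⟨p, hp, hd⟩ := h.B_decomp (nr_of_mem hxS hx) hSB hconj hb
      refine ⟨_, hd, ?_⟩
      rw [mul_smul, smul_eq_of_conj hbS, Sylow.smul_eq_iff_mem_normalizer]
      exact inv_mem (le_normalizer hp)
    · obtain ⟨d, hd, hdS⟩ := h.conj_noncen he hxS' hxS h2
      exact ⟨d⁻¹, inv_mem hd, by rw [← hdS, inv_smul_smul]⟩
  · exact h.conj_noncen he hxS hxS' h1

theorem Hyp'.le_kLine (h : Hyp' r N m) [Fintype (Sylow r G)]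
    (he : ∀ S : Sylow r G, N ⊓ normalizer ((S : Subgroup G) : Set G) ≤ (S : Subgroup G) ⊔ (N ⊓ center G))
    {T : Subgroup G} (hT : IsLine r T) :
    (Finset.univ.filter fun S : Sylow r G => T ≤ (S : Subgroup G)).card ≤ kLine N T := by
  obtain ⟨x, hx, rfl⟩ := hT
  obtain ⟨S, hS⟩ := (isPGroup_Tx hx.1).exists_le_sylow
  set D := N ⊓ centralizer (Tx r x : Set G) with hD
  set X := Tx r x ⊔ (N ⊓ center G)
  have hd : ∀ S' : (Finset.univ.filter fun S' : Sylow r G => Tx r x ≤ (S' : Subgroup G)),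
      ∃ d : D, (d : G) • S = (S' : Sylow r G) := by
    intro S'
    obtain ⟨d, hd, he'⟩ := h.conj_D he ((Finset.mem_filter.mp S'.2).2 (mem_Tx_self r x))
      (hS (mem_Tx_self r x)) hx.2
    exact ⟨⟨d, by rw [hD, centralizer_Tx]; exact hd⟩, he'⟩
  choose d hd using hd
  rw [← Fintype.card_coe, ← Nat.card_eq_fintype_card]
  refine Nat.card_le_card_of_injective (fun S' => (d S' : D ⧸ X.subgroupOf D)) fun S1 S2 e => ?_
  apply Subtype.ext
  rw [← hd S1, ← hd S2]
  have e' : (d S1 : G)⁻¹ * d S2 ∈ X := by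
    simpa [mem_subgroupOf] using QuotientGroup.eq.mp e
  have hXS : X ≤ normalizer ((S : Subgroup G) : Set G) :=
    sup_le (hS.trans le_normalizer) (inf_le_right.trans fun c hc =>
      mem_normalizer_iff.mpr fun a => by
        rw [show c * a * c⁻¹ = a by rw [(mem_center_iff.mp hc a).symm, mul_inv_cancel_right]])
  have h3 := Sylow.smul_eq_iff_mem_normalizer.mpr (hXS e')
  rw [mul_smul, inv_smul_eq_iff] at h3
  exact h3.symm

theorem Hyp'.kLine_pure (h : Hyp' r N m) {x : G} (hx : NR r x) (hpure : ¬ Mixed r N x) :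
    kLine N (Tx r x) = 1 := by
  rw [kLine, relIndex_eq_one, centralizer_Tx]
  intro d hd
  obtain ⟨a, b, hab, ha, hb, har, hbr⟩ := exists_parts' (r := r) d
  rw [hab]
  refine mul_mem_sup (h.mem_Tx hx har (mem_inf.mp (zpowers_le.mpr hd ha)).2)
    (mem_inf.mpr ⟨(mem_inf.mp (zpowers_le.mpr hd hb)).1, ?_⟩)
  by_contra hb'
  exact hpure ⟨hx.1, hx.2, b, (mem_inf.mp (zpowers_le.mpr hd hb)).1, hb', hbr, (mem_inf.mp (zpowers_le.mpr hd hb)).2⟩

theorem Hyp'.two_le_kLine (h : Hyp' r N m) {x : G} (hx : Mixed r N x) :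
    2 ≤ kLine N (Tx r x) := by
  have hne0 : kLine N (Tx r x) ≠ 0 := index_ne_zero_of_finite
  have hne1 : kLine N (Tx r x) ≠ 1 := by
    intro h1
    rw [kLine, relIndex_eq_one, centralizer_Tx] at h1
    obtain ⟨y, hy, hy', hyr, hyx⟩ := hx.2.2
    have hle : Tx r x ⊔ (N ⊓ center G) ≤ Tx r x ⊔ center G := sup_le_sup le_rfl inf_le_right
    have h2 : y ∈ Tx r x ⊔ center G := hle (h1 (mem_inf.mpr ⟨hy, hyx⟩))
    rw [← SetLike.mem_coe, mul_normal, Set.mem_mul] at h2
    obtain ⟨t, ht, c, hc, hty⟩ := h2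
    obtain ⟨k, hk⟩ := RElem.of_mem (isPGroup_Tx hx.1) ht
    refine hy' (PTools69.mem_of_pow_mem (n := r ^ k)
      (((Fact.out : r.Prime).coprime_iff_not_dvd.mpr hyr).pow_left k) ?_)
    rw [← hty, (show Commute t c from mem_center_iff.mp hc t).mul_pow, hk, one_mul]
    exact pow_mem hc _
  omega

/-- `|N| = |Syl_r| · |N_N(S)|`. -/
theorem Hyp.card_N_eq (h : Hyp r N m) (S : Sylow r G) :
    Nat.card N = Nat.card (Sylow r G) * Nat.card ↥(N ⊓ normalizer ((S : Subgroup G) : Set G)) := by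
  haveI : MulAction.IsPretransitive N (Sylow r G) := ⟨fun S1 S2 => by
    obtain ⟨b, hb, hbS⟩ := conj_into (h.sylow_le S2) S1.isPGroup' (h.sylow_le S1)
    exact ⟨⟨b, hb⟩, smul_eq_of_conj hbS⟩⟩
  have h1 := MulAction.index_stabilizer_of_transitive N S
  have h2 := (MulAction.stabilizer N S).card_mul_index
  rw [h1] at h2
  rw [← h2, mul_comm]
  refine congrArg (Nat.card (Sylow r G) * ·) ?_
  have e : MulAction.stabilizer N S = (N ⊓ normalizer ((S : Subgroup G) : Set G)).subgroupOf N := by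
    ext g
    rw [MulAction.mem_stabilizer_iff, mem_subgroupOf, mem_inf]
    exact ⟨fun hg => ⟨g.2, Sylow.smul_eq_iff_mem_normalizer.mp hg⟩,
      fun hg => Sylow.smul_eq_iff_mem_normalizer.mpr hg.2⟩
  rw [e, Nat.card_congr (subgroupOfEquivOfLe inf_le_left).toEquiv]

/-- There is only one mixed line. -/
theorem Hyp'.unique_mixed (h : Hyp' r N m) {x y : G} (hx : Mixed r N x) (hy : Mixed r N y) :
    Tx r x = Tx r y := by
  haveI := Fintype.ofFinite G
  haveI := Fintype.ofFinite (Subgroup G)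
  haveI := Fintype.ofFinite (Sylow r G)
  have hr : r.Prime := Fact.out
  set L := Finset.univ.filter (IsLine (G := G) r) with hLdef
  set n := Nat.card (Sylow r G) with hn
  set z := Nat.card ↥(N ⊓ center G) with hz
  set zr := Nat.card (Zr r G) with hzr
  have hz0 : 0 < z := Nat.card_pos
  have hzr0 : 0 < zr := Nat.card_pos
  obtain ⟨S0⟩ := (inferInstance : Nonempty (Sylow r G))
  set Λ := (L.filter fun T => T ≤ (S0 : Subgroup G)).card with hΛ
  have hr1 : 0 < r - 1 := by have := hr.two_le; omega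
  have hcardS : ∀ S : Sylow r G, Nat.card (S : Subgroup G) = Nat.card (S0 : Subgroup G) :=
    fun S => S.card_eq_multiplicity.trans S0.card_eq_multiplicity.symm
  have hΛS : ∀ S : Sylow r G, (L.filter fun T => T ≤ (S : Subgroup G)).card = Λ := by
    intro S
    have h1 := h.lines_sylow S
    rw [hcardS S, ← h.lines_sylow S0, Nat.add_right_cancel_iff] at h1
    exact Nat.eq_of_mul_eq_mul_right (Nat.mul_pos hr1 hzr0) h1
  have hS0 : Nat.card (S0 : Subgroup G) = zr * (Λ * (r - 1) + 1) := by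
    rw [← h.lines_sylow S0]; ring
  have hXS : ∀ S : Sylow r G,
      Nat.card ↥((S : Subgroup G) ⊔ (N ⊓ center G)) = (Λ * (r - 1) + 1) * z := by
    intro S
    have h1 := h.toHyp.card_sup_center S.isPGroup' (Zr_le_sylow S) (h.sylow_le S)
    rw [hcardS S, hS0] at h1
    refine Nat.eq_of_mul_eq_mul_right hzr0 (h1.trans ?_)
    ring
  -- incidences
  set K := ∑ T ∈ L, kLine N T
  have hpairs : ∀ L' : Finset (Subgroup G),
      ∑ T ∈ L', (Finset.univ.filter fun S : Sylow r G => T ≤ (S : Subgroup G)).card =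
        ∑ S : Sylow r G, (L'.filter fun T => T ≤ (S : Subgroup G)).card := by
    intro L'
    simp only [Finset.card_filter]
    exact Finset.sum_comm
  have hsum : ∑ S : Sylow r G, (L.filter fun T => T ≤ (S : Subgroup G)).card = n * Λ := by
    rw [Finset.sum_congr rfl (fun S _ => hΛS S), Finset.sum_const, Finset.card_univ, smul_eq_mul,
      ← Nat.card_eq_fintype_card]
  have hKle : K ≤ n * Λ := by
    rw [← hsum, ← hpairs]
    exact Finset.sum_le_sum fun T hT => h.kLine_le (Finset.mem_filter.mp hT).2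
  have hNcount := h.card_N
  rw [← hLdef, ← hz] at hNcount
  -- normalizers of Sylow subgroups
  have hXle : ∀ S : Sylow r G, (S : Subgroup G) ⊔ (N ⊓ center G) ≤ N ⊓ normalizer ((S : Subgroup G) : Set G) :=
    fun S => sup_le (le_inf (h.sylow_le S) le_normalizer)
      (le_inf inf_le_left (inf_le_right.trans fun c hc => mem_normalizer_iff.mpr fun a => by
        rw [show c * a * c⁻¹ = a by rw [(mem_center_iff.mp hc a).symm, mul_inv_cancel_right]]))
  have hx0 : NR r x := ⟨hx.1, hx.2.1⟩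
  have hL1 : 1 ≤ L.card :=
    Finset.card_pos.mpr ⟨Tx r x, Finset.mem_filter.mpr ⟨Finset.mem_univ _, x, hx0, rfl⟩⟩
  have hind : ∀ S : Sylow r G,
      ((S : Subgroup G) ⊔ (N ⊓ center G)).relIndex (N ⊓ normalizer ((S : Subgroup G) : Set G)) = 1 ∧
        n * (Λ * (r - 1) + 1) + L.card = 1 + r * K := by
    intro S
    set e := ((S : Subgroup G) ⊔ (N ⊓ center G)).relIndex (N ⊓ normalizer ((S : Subgroup G) : Set G))
    have h1 : Nat.card ↥(N ⊓ normalizer ((S : Subgroup G) : Set G)) = (Λ * (r - 1) + 1) * z * e := by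
      rw [← hXS S, ← Nat.card_congr (subgroupOfEquivOfLe (hXle S)).toEquiv]
      exact ((((S : Subgroup G) ⊔ (N ⊓ center G)).subgroupOf _).card_mul_index).symm
    have h2 := h.toHyp.card_N_eq S
    rw [h1] at h2
    have h3 : n * (Λ * (r - 1) + 1) * e + L.card = 1 + r * K := by
      refine Nat.eq_of_mul_eq_mul_left hz0 (Eq.trans ?_ hNcount)
      rw [h2, ← hn]; ring
    have he0 : e ≠ 0 := index_ne_zero_of_finite
    have he1 : e = 1 := by
      by_contra hne
      have he2 : 2 ≤ e := by omega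
      have h4 : n * (Λ * (r - 1) + 1) * 2 ≤ n * (Λ * (r - 1) + 1) * e := Nat.mul_le_mul_left _ he2
      have h5 : r * K ≤ r * (n * Λ) := Nat.mul_le_mul_left r hKle
      have hn0 : 0 < n := Nat.card_pos
      obtain ⟨r', hr'⟩ : ∃ r', r = r' + 2 := ⟨r - 2, by have := hr.two_le; omega⟩
      rw [hr', show r' + 2 - 1 = r' + 1 by omega] at h4 h3
      rw [hr'] at h5
      nlinarith [Nat.zero_le (r' * (n * Λ))]
    refine ⟨he1, ?_⟩
    rw [he1, mul_one] at h3
    exact h3
  have he : ∀ S : Sylow r G,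
      N ⊓ normalizer ((S : Subgroup G) : Set G) ≤ (S : Subgroup G) ⊔ (N ⊓ center G) :=
    fun S => relIndex_eq_one.mp (hind S).1
  have hks : ∀ T ∈ L, kLine N T = (Finset.univ.filter fun S : Sylow r G => T ≤ (S : Subgroup G)).card :=
    fun T hT => le_antisymm (h.kLine_le (Finset.mem_filter.mp hT).2) (h.le_kLine he (Finset.mem_filter.mp hT).2)
  have hK : K = n * Λ := by rw [← hsum, ← hpairs]; exact Finset.sum_congr rfl hks
  -- the mixed lines
  set M := L.filter (fun T => ∃ w : G, Mixed r N w ∧ T = Tx r w) with hM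
  set μ := fun S : Sylow r G => (M.filter fun T => T ≤ (S : Subgroup G)).card
  have hsplit : (∑ T ∈ M, kLine N T) + L.card = K + M.card := by
    have h1 := Finset.sum_filter_add_sum_filter_not L (fun T => ∃ w : G, Mixed r N w ∧ T = Tx r w) (kLine N)
    have h2 := Finset.card_filter_add_card_filter_not (s := L) (fun T => ∃ w : G, Mixed r N w ∧ T = Tx r w)
    have h3 : ∑ T ∈ L.filter (fun T => ¬ ∃ w : G, Mixed r N w ∧ T = Tx r w), kLine N T =
        (L.filter (fun T => ¬ ∃ w : G, Mixed r N w ∧ T = Tx r w)).card := by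
      rw [Finset.card_eq_sum_ones]
      refine Finset.sum_congr rfl fun T hT => ?_
      simp only [L, Finset.mem_filter, Finset.mem_univ, true_and] at hT
      obtain ⟨⟨w, hw, rfl⟩, hnm⟩ := hT
      exact h.kLine_pure hw fun hwm => hnm ⟨w, hwm, rfl⟩
    rw [← hM] at h1 h2
    show (∑ T ∈ M, kLine N T) + L.card = K + M.card
    omega
  have hsumM : ∑ T ∈ M, kLine N T = ∑ S : Sylow r G, μ S := by
    rw [← hpairs]
    exact Finset.sum_congr rfl fun T hT => hks T (Finset.mem_filter.mp hT).1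
  have hMmem : ∀ (T : Subgroup G) (w : G), Mixed r N w → T = Tx r w → T ∈ M := fun T w hw e =>
    Finset.mem_filter.mpr ⟨Finset.mem_filter.mpr ⟨Finset.mem_univ _, w, ⟨hw.1, hw.2.1⟩, e⟩, w, hw, e⟩
  have hμ : ∀ S S' : Sylow r G, μ S ≤ μ S' := by
    intro S S'
    obtain ⟨b, hb⟩ := MulAction.exists_smul_eq G S S'
    refine Finset.card_le_card_of_injOn (fun T => T.map (MulAut.conj b).toMonoidHom) (fun T hT => ?_) ?_
    · simp only [Finset.mem_coe, Finset.mem_filter, M] at hT ⊢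
      obtain ⟨⟨-, w, hw, rfl⟩, hTS⟩ := hT
      have hwS := hTS (mem_Tx_self r w)
      have heq : (Tx r w).map (MulAut.conj b).toMonoidHom = Tx r (b * w * b⁻¹) := by
        refine eq_of_le_of_card_ge ?_ ?_
        · rw [map_le_iff_le_comap]
          refine Tx_le (mem_Tx_self r (b * w * b⁻¹)) fun c hc => ?_
          show b * c * b⁻¹ ∈ Tx r (b * w * b⁻¹)
          rw [mem_center_iff.mp hc.1 b, mul_inv_cancel_right]
          exact Zr_le_Tx r _ hc
        · rw [h.card_Tx (nr_conj ⟨hw.1, hw.2.1⟩ b), card_map_of_injective (MulAut.conj b).injective,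
            h.card_Tx ⟨hw.1, hw.2.1⟩]
      rw [heq]
      refine ⟨⟨Finset.mem_filter.mpr ⟨Finset.mem_univ _, _, nr_conj ⟨hw.1, hw.2.1⟩ b, rfl⟩,
        _, h.toHyp.mixed_conj hw b, rfl⟩, Tx_le_sylow ?_⟩
      rw [← hb]; exact smul_mem hwS b
    · intro T _ T' _ e
      exact Subgroup.map_injective (MulAut.conj b).injective e
  have hμc : ∀ S : Sylow r G, μ S = μ S0 := fun S => le_antisymm (hμ S S0) (hμ S0 S)
  have hsumμ : ∑ S : Sylow r G, μ S = n * μ S0 := by
    rw [Finset.sum_congr rfl (fun S _ => hμc S), Finset.sum_const, Finset.card_univ, smul_eq_mul,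
      ← Nat.card_eq_fintype_card]
  have hμ1 : 1 ≤ μ S0 := by
    obtain ⟨S, w, hwS, hw⟩ := h.exists_mixed_sylow
    rw [← hμc S]
    exact Finset.card_pos.mpr ⟨Tx r w, Finset.mem_filter.mpr ⟨hMmem _ w hw rfl, Tx_le_sylow hwS⟩⟩
  have h2M : 2 * M.card ≤ ∑ T ∈ M, kLine N T := by
    rw [mul_comm, ← smul_eq_mul, ← Finset.sum_const]
    refine Finset.sum_le_sum fun T hT => ?_
    obtain ⟨-, w, hw, rfl⟩ := Finset.mem_filter.mp hT
    exact h.two_le_kLine hw
  have hmain : n * μ S0 + 1 = M.card + n := by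
    have h1 := (hind S0).2
    rw [hsumM, hsumμ, hK] at hsplit
    rw [hK] at h1
    obtain ⟨r', hr'⟩ : ∃ r', r = r' + 1 := ⟨r - 1, by omega⟩
    rw [hr', Nat.add_sub_cancel] at h1
    nlinarith
  have hμ2 : μ S0 = 1 := by
    rw [hsumM, hsumμ] at h2M
    by_contra hne
    have : n * 2 ≤ n * μ S0 := Nat.mul_le_mul_left n (by omega)
    omega
  rw [hμ2, mul_one] at hmain
  have hMc : M.card = 1 := by omega
  exact Finset.card_le_one.mp hMc.le _ (hMmem _ x hx rfl) _ (hMmem _ y hy rfl)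

/-- The configuration does not exist. -/
theorem Hyp'.contradiction (h : Hyp' r N m) : False := by
  obtain ⟨S, x, hxS, hx⟩ := h.exists_mixed_sylow
  have hxn : NR r x := ⟨hx.1, hx.2.1⟩
  have hxN := h.sylow_le S hxS
  -- all non-central `r'`-elements of `N` have the centralizer of `x`
  have hall : ∀ y ∈ N, y ∉ center G → ¬ r ∣ orderOf y →
      centralizer ({y} : Set G) = centralizer ({x} : Set G) := by
    intro y hy hy' hyr
    obtain ⟨w, hwr, hw', hyw⟩ := h.toHyp.exists_rep hy hy'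
    have hwm : Mixed r N w := ⟨hwr, hw', y, hy, hy', hyr, hyw ▸ mem_Cx.mpr rfl⟩
    rw [hyw]
    exact h.eq_of_mem hxn (h.mem_of_rElem hwr) hw'
      (Tx_le_Cx r x (h.unique_mixed hx hwm ▸ mem_Tx_self r w))
  obtain ⟨g, hgS, hgx⟩ := SetLike.not_le_iff_exists.mp (h.toHyp.not_cen_sylow S hxN hx.2.1)
  have hg' : g ∉ center G := fun hc => hgx (center_le_Cx x hc)
  have hgN := h.sylow_le S hgS
  set K := Kx h.toHyp hx
  have hK : ∀ k ∈ N, ¬ r ∣ orderOf k → k ∈ K := by
    intro k hk hkr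
    refine ⟨hk, ?_, hkr⟩
    by_cases hk' : k ∈ center G
    · exact center_le_Cx x hk'
    · rw [← hall k hk hk' hkr]; exact mem_Cx.mpr rfl
  have hconj : ∀ (u k : G), k ∈ K → u * k * u⁻¹ ∈ K := fun u k hk =>
    hK _ (h.normal.conj_mem k hk.1 u) (by
      rw [← MulAut.conj_apply, ← MulEquiv.coe_toMonoidHom, orderOf_injective _ (MulAut.conj u).injective]
      exact hk.2.2)
  let φ : K →* G :=
    { toFun := fun k => ⁅g, (k : G)⁆
      map_one' := by simp
      map_mul' := fun a b => by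
        have hcm : (a : G) * ⁅g, (b : G)⁆ = ⁅g, (b : G)⁆ * a := by
          have hb : ⁅g, (b : G)⁆ ∈ K := mul_mem (hconj g b b.2) (inv_mem b.2)
          exact h.toHyp.mixed_comm hx hb.1 hb.2.1 a.2.2.1
        show ⁅g, (a : G) * b⁆ = ⁅g, (a : G)⁆ * ⁅g, (b : G)⁆
        rw [show ⁅g, (a : G) * b⁆ = ⁅g, (a : G)⁆ * ((a : G) * ⁅g, (b : G)⁆ * (a : G)⁻¹) by
          simp only [commutatorElement_def]; group, hcm, mul_inv_cancel_right] }
  set I := φ.range
  have hIK : I ≤ K := by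
    rintro _ ⟨k, rfl⟩
    exact mul_mem (hconj g k k.2) (inv_mem k.2)
  have hIone : ∀ i ∈ I, i ∈ centralizer ({g} : Set G) → i = 1 := by
    intro i hi hig
    have hiK := hIK hi
    by_cases hic : i ∈ center G
    · obtain ⟨k, rfl⟩ := hi
      have h1 : ⁅g, (k : G)⁆ ^ r = 1 := by
        rw [← comm_pow_left hic, commutatorElement_eq_one_iff_mul_comm]
        exact (mem_center_iff.mp (h.pow_r (RElem.of_mem S.isPGroup' hgS)) k).symm
      exact (RElem.eq_one (r := r) ⟨1, by rw [pow_one]; exact h1⟩ hiK.2.2)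
    · exfalso
      apply hgx
      rw [← hall i hiK.1 hic hiK.2.2]
      exact mem_Cx_comm.mp hig
  obtain ⟨y0, hy0, hy0', hy0r, hy0x⟩ := hx.2.2
  set i0 := ⁅g, y0⁆
  have hi0 : i0 ∈ I := ⟨⟨y0, hy0, hy0x, hy0r⟩, rfl⟩
  have hi0' : i0 ≠ 1 := fun e => hgx (by
    rw [← hall y0 hy0 hy0' hy0r]
    exact mem_Cx.mpr (commutatorElement_eq_one_iff_mul_comm.mp e))
  have hi0c : i0 ∉ center G := fun hc => hi0' (hIone i0 hi0 (center_le_Cx g hc))
  set J := centralizer ({g} : Set G) ⊓ centralizer ({x} : Set G)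
  have h1 : Nat.card I * Nat.card J ≤ Nat.card (centralizer ({x} : Set G)) := by
    rw [← Nat.card_prod]
    refine Nat.card_le_card_of_injective (fun q : I × J =>
      (⟨(q.1 : G) * q.2, mul_mem (hIK q.1.2).2.1 (mem_inf.mp q.2.2).2⟩ : centralizer ({x} : Set G))) ?_
    rintro ⟨i, j⟩ ⟨i', j'⟩ e
    simp only [Subtype.mk.injEq] at e
    have e' : (i' : G)⁻¹ * i = (j' : G) * (j : G)⁻¹ := by
      rw [eq_mul_inv_iff_mul_eq, mul_assoc, e, inv_mul_cancel_left]
    have h2 := hIone _ (mul_mem (inv_mem i'.2) i.2) (e' ▸ mul_mem (mem_inf.mp j'.2).1 (inv_mem (mem_inf.mp j.2).1))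
    rw [inv_mul_eq_one] at h2
    obtain rfl : i = i' := Subtype.ext h2.symm
    rw [Prod.mk.injEq]
    exact ⟨rfl, Subtype.ext (mul_left_cancel e)⟩
  have h3 : (J.subgroupOf (centralizer ({g} : Set G))).index < Nat.card I := by
    let f : centralizer ({g} : Set G) ⧸ J.subgroupOf (centralizer ({g} : Set G)) → I := fun q =>
      ⟨(q.out : G) * i0 * (q.out : G)⁻¹, ⟨⟨_, hconj (q.out : G) y0 ⟨hy0, hy0x, hy0r⟩⟩, by
        show ⁅g, (q.out : G) * y0 * (q.out : G)⁻¹⁆ = (q.out : G) * i0 * (q.out : G)⁻¹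
        have hc := mem_Cx.mp q.out.2
        have hc' : (q.out : G)⁻¹ * g * (q.out : G) = g := by rw [mul_assoc, ← hc, inv_mul_cancel_left]
        calc ⁅g, (q.out : G) * y0 * (q.out : G)⁻¹⁆
            = (q.out : G) * ⁅(q.out : G)⁻¹ * g * (q.out : G), y0⁆ * (q.out : G)⁻¹ := by
              simp only [commutatorElement_def]; group
          _ = (q.out : G) * i0 * (q.out : G)⁻¹ := by rw [hc']⟩⟩
    have hinj : Function.Injective f := by
      intro q q' e
      replace e : (q.out : G) * i0 * (q.out : G)⁻¹ = (q'.out : G) * i0 * (q'.out : G)⁻¹ :=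
        congrArg Subtype.val e
      have hmem : (q'.out : G)⁻¹ * q.out ∈ J := by
        refine mem_inf.mpr ⟨mul_mem (inv_mem q'.out.2) q.out.2, ?_⟩
        rw [← hall i0 (hIK hi0).1 hi0c (hIK hi0).2.2, mem_Cx]
        calc (q'.out : G)⁻¹ * q.out * i0 = (q'.out : G)⁻¹ * ((q.out : G) * i0 * (q.out : G)⁻¹) * q.out := by group
          _ = (q'.out : G)⁻¹ * ((q'.out : G) * i0 * (q'.out : G)⁻¹) * q.out := by rw [e]
          _ = i0 * ((q'.out : G)⁻¹ * q.out) := by group
      have h4 : ((q'.out : centralizer ({g} : Set G)) : centralizer ({g} : Set G) ⧸ J.subgroupOf (centralizer ({g} : Set G))) =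
          (q.out : centralizer ({g} : Set G) ⧸ J.subgroupOf (centralizer ({g} : Set G))) :=
        QuotientGroup.eq.mpr (by simpa [mem_subgroupOf] using hmem)
      simpa using h4.symm
    rcases lt_or_eq_of_le (Nat.card_le_card_of_injective f hinj) with h' | h'
    · exact h'
    · obtain ⟨q, hq⟩ := (hinj.bijective_of_nat_card_le h'.ge).2 1
      exfalso
      apply hi0'
      simpa [f, Subtype.ext_iff, conj_eq_one_iff] using hq
  have e1 := (J.subgroupOf (centralizer ({g} : Set G))).card_mul_index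
  rw [Nat.card_congr (subgroupOfEquivOfLe (inf_le_left : J ≤ _)).toEquiv] at e1
  have h5 : Nat.card (centralizer ({g} : Set G)) < Nat.card (centralizer ({x} : Set G)) := by
    rw [← e1]
    exact lt_of_lt_of_le (Nat.mul_lt_mul_of_pos_left h3 Nat.card_pos) (by rw [mul_comm]; exact h1)
  have e2 := (centralizer ({g} : Set G)).card_mul_index
  rw [h.sizes g hgN hg', ← (centralizer ({x} : Set G)).card_mul_index, h.sizes x hxN hx.2.1] at e2
  have hm : 0 < m := by rw [← h.sizes x hxN hx.2.1]; exact Nat.pos_of_ne_zero index_ne_zero_of_finite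
  exact h5.ne (Nat.eq_of_mul_eq_mul_right hm e2)

end CfsgLib.TwoSizes69
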